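import Groth.Agent.Lib.FieldH25.Torsion

/-!
# Primary torsion of cohomology above the cohomological dimension plus one
-/

set_option autoImplicit false
set_option linter.style.haveILetI false
set_option backward.isDefEq.respectTransparency.types false

universe u

open CategoryTheory CategoryTheory.Limits AlgebraicGeometry Opposite Abelian

namespace Groth.Agent.FieldH25

variable {X : Scheme.{u}}

theorem H_map_nsmul_id (F : EtCoh.Ab X) (m i : ℕ) (x : EtCoh.H X F i) :
    Sheaf.H.map (m • 𝟙 F) i x = m • x := by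
  induction m with
  | zero =>
    rw [zero_nsmul, zero_nsmul]
    have h := Sheaf.H.map_add_apply (0 : F ⟶ F) 0 x
    rw [add_zero] at h
    exact left_eq_add.1 h
  | succ m ih => rw [succ_nsmul, succ_nsmul, Sheaf.H.map_add_apply, ih, Sheaf.H.map_id_apply]

theorem isTorsion_of_nsmul_id_eq_zero (F : EtCoh.Ab X) {N : ℕ} (hN : 0 < N) (h : N • 𝟙 F = 0) :
    EtCoh.IsTorsion F := by
  intro U s x
  refine ⟨U, 𝟙 U, ⟨x, rfl⟩, isOfFinAddOrder_iff_nsmul_eq_zero.2 ⟨N, hN, ?_⟩⟩
  have h1 : ((sheafToPresheaf _ _ ⋙ (evaluation _ _).obj (op U)).map (N • 𝟙 F) : F.obj.obj (op U) ⟶ _) = 0 := by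
    rw [h, Functor.map_zero]
  rw [Functor.map_nsmul, CategoryTheory.Functor.map_id] at h1
  have h2 := ConcreteCategory.congr_hom h1 (F.obj.map (𝟙 U).op s)
  exact h2

/-- If the `p`-primary torsion of torsion sheaves vanishes above degree `n`, then that of all sheaves
vanishes above degree `n + 1`. -/
theorem primary_vanishes_succ (p : ℕ) (hp : 0 < p) (n : ℕ)
    (hcd : ∀ (F : EtCoh.Ab X), EtCoh.IsTorsion F → ∀ q : ℕ, n < q →
        ∀ x : EtCoh.H X F q, (∃ m : ℕ, p ^ m • x = 0) → x = 0)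
    (F : EtCoh.Ab X) (q : ℕ) (hq : n + 1 < q) (x : EtCoh.H X F q) (hx : ∃ m : ℕ, p ^ m • x = 0) : x = 0 := by
  obtain ⟨m, hm⟩ := hx
  obtain ⟨q, rfl⟩ : ∃ q', q = q' + 1 := ⟨q - 1, by omega⟩
  have hN : 0 < p ^ m := Nat.pow_pos hp
  have key : ∀ (G : EtCoh.Ab X), p ^ m • 𝟙 G = 0 → ∀ r, n < r → ∀ z : EtCoh.H X G r, z = 0 := by
    intro G hG r hr z
    refine hcd G (isTorsion_of_nsmul_id_eq_zero G hN hG) r hr z ⟨m, ?_⟩
    rw [← H_map_nsmul_id G (p ^ m) r z, hG]
    have h := H_map_nsmul_id G 0 r z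
    rwa [zero_nsmul, zero_nsmul] at h
  let f : F ⟶ F := p ^ m • 𝟙 F
  let π := cokernel.π (kernel.ι f)
  let j : cokernel (kernel.ι f) ⟶ F := cokernel.desc _ f (kernel.condition f)
  have hj : π ≫ j = f := cokernel.π_desc _ _ _
  haveI : Mono j := by
    show Mono (Abelian.factorThruCoimage f)
    infer_instance
  let S1 : ShortComplex (EtCoh.Ab X) := ShortComplex.mk (kernel.ι f) π (cokernel.condition _)
  have hS1 : S1.ShortExact := { exact := ShortComplex.exact_cokernel _ }
  let S2 : ShortComplex (EtCoh.Ab X) := ShortComplex.mk j (cokernel.π j) (cokernel.condition _)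
  have hS2 : S2.ShortExact := { exact := ShortComplex.exact_cokernel _ }
  have hC : p ^ m • 𝟙 (cokernel j) = 0 := by
    rw [← cancel_epi (cokernel.π j)]
    rw [Preadditive.comp_nsmul, Category.comp_id, comp_zero]
    calc p ^ m • cokernel.π j = f ≫ cokernel.π j := by
          simp only [f, Preadditive.nsmul_comp, Category.id_comp]
      _ = (π ≫ j) ≫ cokernel.π j := congrArg (fun g => g ≫ cokernel.π j) hj.symm
      _ = 0 := by rw [Category.assoc, cokernel.condition, comp_zero]
  have hK : p ^ m • 𝟙 (kernel f) = 0 := by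
    rw [← cancel_mono (kernel.ι f)]
    rw [Preadditive.nsmul_comp, Category.id_comp, zero_comp]
    calc p ^ m • kernel.ι f = kernel.ι f ≫ f := by
          simp only [f, Preadditive.comp_nsmul, Category.comp_id]
      _ = 0 := kernel.condition f
  have hy : x.comp (Ext.mk₀ π) (add_zero _) = 0 := by
    have h0 : (x.comp (Ext.mk₀ π) (add_zero _)).comp (Ext.mk₀ j) (add_zero _) = 0 := by
      rw [Ext.comp_assoc_of_second_deg_zero, Ext.mk₀_comp_mk₀, hj]
      exact (H_map_nsmul_id F (p ^ m) _ x).trans hm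
    obtain ⟨z, hz⟩ := Ext.covariant_sequence_exact₁ _ hS2 (x.comp (Ext.mk₀ π) (add_zero _)) h0 (n₀ := q) rfl
    rw [← hz, key _ hC q (by omega) z]
    simp
  obtain ⟨w, rfl⟩ := Ext.covariant_sequence_exact₂ _ hS1 x hy
  rw [show w = 0 from key _ hK (q + 1) (by omega) w]
  simp

end Groth.Agent.FieldH25
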