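import Groth.Agent.Lib.EtStalk.HofPush
import Groth.Agent.Lib.EtStalk.Integral
import Groth.Agent.Lib.EtStalk.Push
import Groth.Agent.Lib.EtColim.Torsion
import Groth.Agent.Lib.ExtShriek24.TraceFinEt
import Groth.Agent.Lib.FieldH25.Primary

/-!
# Cohomology along integral and finite étale morphisms: restriction and transfer
-/

set_option autoImplicit false
set_option linter.style.haveILetI false
set_option backward.isDefEq.respectTransparency.types false

universe u

open CategoryTheory CategoryTheory.Limits AlgebraicGeometry Opposite Abelian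
open Groth.Agent.EtStalk

namespace Groth.Agent.FieldH25

variable {X Y Z : Scheme.{u}}

/-- No higher direct images along integral morphisms. -/
theorem isZero_Rpush_integral (f : X ⟶ Y) [IsIntegralHom f] (F : EtCoh.Ab X) (q : ℕ) (hq : 0 < q) :
    IsZero ((EtCoh.Rpush f q).obj F) := by
  haveI : (EtCoh.push f).IsRightAdjoint := (EtCoh.pullPushAdj f).isRightAdjoint
  haveI : (EtCoh.push f).Additive := (EtCoh.pullPushAdj f).right_adjoint_additive
  haveI := preservesEpimorphisms_push_integral f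
  haveI := (EtCoh.push f).preservesHomology_of_preservesEpis_and_kernels
  let I : InjectiveResolution F := injectiveResolution F
  refine IsZero.of_iso ?_ (I.isoRightDerivedObj (EtCoh.push f) q)
  change IsZero (HomologicalComplex.homology _ q)
  rw [← HomologicalComplex.exactAt_iff_isZero_homology, HomologicalComplex.exactAt_iff]
  obtain ⟨m, rfl⟩ := Nat.exists_eq_add_one.2 hq
  exact ((I.cocomplex.exactAt_iff (m + 1)).1 (I.cocomplex_exactAt_succ m)).map (EtCoh.push f)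

theorem eq_zero_of_comp_iso {A B B' : EtCoh.Ab X} {n : ℕ} (z : Ext A B n) (e : B ≅ B')
    (h : z.comp (Ext.mk₀ e.hom) (add_zero n) = 0) : z = 0 := by
  have h1 := congrArg (fun t => t.comp (Ext.mk₀ e.inv) (add_zero n)) h
  simp only [Ext.comp_assoc_of_third_deg_zero, Ext.mk₀_comp_mk₀, Iso.hom_inv_id, Ext.comp_mk₀_id,
    Ext.zero_comp] at h1
  exact h1

theorem bijective_HofPush_integral (f : X ⟶ Y) [IsIntegralHom f] (F : EtCoh.Ab X) (n : ℕ) :
    Function.Bijective (EtLim.HofPush f F n) :=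
  bijective_HofPush f n F (fun q hq => isZero_Rpush_integral f F q hq)

theorem HofPush_unit (f : X ⟶ Y) (G : EtCoh.Ab Y) (n : ℕ) (x : EtCoh.H Y G n) :
    EtLim.HofPush f ((EtCoh.pull f).obj G) n
        (x.comp (Ext.mk₀ ((EtCoh.pullPushAdj f).unit.app G)) (add_zero n)) = EtCore.Hpull f G n x := by
  rw [HofPush_apply, Hpull_eq, Ext.mapExactFunctor_comp, Ext.mapExactFunctor_mk₀]
  simp only [Ext.comp_assoc_of_third_deg_zero, Ext.mk₀_comp_mk₀]
  erw [(EtCoh.pullPushAdj f).left_triangle_components G]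
  rw [Ext.comp_mk₀_id]

theorem Hpull_comp (f : X ⟶ Y) (g : Y ⟶ Z) (G : EtCoh.Ab Z) (n : ℕ) (x : EtCoh.H Z G n) :
    (EtCore.Hpull f ((EtCoh.pull g).obj G) n (EtCore.Hpull g G n x)).comp
        (Ext.mk₀ ((EtCore.pullComp f g).inv.app G)) (add_zero n) = EtCore.Hpull (f ≫ g) G n x := by
  rw [Hpull_eq, Hpull_eq, Hpull_eq, Ext.mapExactFunctor_comp, Ext.mapExactFunctor_mk₀]
  simp only [Ext.comp_assoc_of_third_deg_zero]
  erw [mapExt_comp_nat (EtCoh.pull g) (EtCoh.pull f) (EtCoh.pull (f ≫ g)) (EtCore.pullComp f g).inv n x,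
    Ext.mk₀_comp_mk₀_assoc, Ext.mk₀_comp_mk₀_assoc]
  rw [← pullConst_comp f g]
  simp only [Category.assoc]

theorem Hpull_Hpull_eq_zero_iff {W : Scheme.{u}} (f : X ⟶ Y) (g : Y ⟶ Z) (f' : X ⟶ W) (g' : W ⟶ Z) (w : f ≫ g = f' ≫ g')
    (G : EtCoh.Ab Z) (n : ℕ) (x : EtCoh.H Z G n) (h : EtCore.Hpull g G n x = 0) :
    EtCore.Hpull f' ((EtCoh.pull g').obj G) n (EtCore.Hpull g' G n x) = 0 := by
  have h1 : EtCore.Hpull (f ≫ g) G n x = 0 := by rw [← Hpull_comp, h, map_zero, Ext.zero_comp]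
  have h2 : EtCore.Hpull (f' ≫ g') G n x = 0 := by
    have : ∀ (h' : X ⟶ Z), f ≫ g = h' → EtCore.Hpull h' G n x = 0 := by
      rintro h' rfl
      exact h1
    exact this _ w
  rw [← Hpull_comp] at h2
  exact eq_zero_of_comp_iso _ ((EtCore.pullComp f' g').app G).symm h2

/-- A class killed by a finite étale cover of degree `d` is killed by `d`. -/
theorem nsmul_eq_zero_of_Hpull_eq_zero (f : X ⟶ Y) [IsFinite f] [AlgebraicGeometry.Etale f] [Flat f]
    (d : ℕ) (hd : ∀ y : Y, f.finrank y = d) (G : EtCoh.Ab Y) (n : ℕ) (x : EtCoh.H Y G n)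
    (h : EtCore.Hpull f G n x = 0) : d • x = 0 := by
  obtain ⟨adj, hadj⟩ := ExtShriek24.exists_adj_trace f d hd
  have h1 : x.comp (Ext.mk₀ ((EtCoh.pullPushAdj f).unit.app G)) (add_zero n) = 0 := by
    refine (bijective_HofPush_integral f _ n).1 ?_
    rw [HofPush_unit, h, map_zero]
  rw [← H_map_nsmul_id G d n x, ← hadj G]
  show x.comp (Ext.mk₀ _) (add_zero n) = 0
  rw [← Ext.mk₀_comp_mk₀, ← Ext.comp_assoc_of_third_deg_zero, h1, Ext.zero_comp]

/-- Cohomological `p`-dimension does not grow along integral morphisms. -/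
theorem primary_vanishes_of_integral (f : X ⟶ Y) [IsIntegralHom f] (p n : ℕ)
    (hcd : ∀ (F : EtCoh.Ab Y), EtCoh.IsTorsion F → ∀ q : ℕ, n < q →
        ∀ x : EtCoh.H Y F q, (∃ m : ℕ, p ^ m • x = 0) → x = 0)
    (F : EtCoh.Ab X) (hF : EtCoh.IsTorsion F) (q : ℕ) (hq : n < q) (x : EtCoh.H X F q)
    (hx : ∃ m : ℕ, p ^ m • x = 0) : x = 0 := by
  obtain ⟨y, rfl⟩ := (bijective_HofPush_integral f F q).2 x
  obtain ⟨m, hm⟩ := hx
  have hy : p ^ m • y = 0 := (bijective_HofPush_integral f F q).1 (by rw [map_nsmul, hm, map_zero])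
  haveI : (EtCoh.push f).IsRightAdjoint := (EtCoh.pullPushAdj f).isRightAdjoint
  rw [hcd _ (EtColim.isTorsion_of_iso ((EtCoh.push f).rightDerivedZeroIsoSelf.app F)
    (EtColim.isTorsion_Rpush f hF 0)) q hq y ⟨m, hy⟩, map_zero]

/-- Cohomological `p`-dimension is detected on a finite étale cover of degree prime to `p`. -/
theorem primary_vanishes_of_coprime (f : X ⟶ Y) [IsFinite f] [AlgebraicGeometry.Etale f] [Flat f]
    (d : ℕ) (hd : ∀ y : Y, f.finrank y = d) (p : ℕ) (hp : Nat.Coprime p d) (n : ℕ)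
    (hcd : ∀ (F : EtCoh.Ab X), EtCoh.IsTorsion F → ∀ q : ℕ, n < q →
        ∀ x : EtCoh.H X F q, (∃ m : ℕ, p ^ m • x = 0) → x = 0)
    (F : EtCoh.Ab Y) (hF : EtCoh.IsTorsion F) (q : ℕ) (hq : n < q) (x : EtCoh.H Y F q)
    (hx : ∃ m : ℕ, p ^ m • x = 0) : x = 0 := by
  obtain ⟨m, hm⟩ := hx
  have h : EtCore.Hpull f F q x = 0 :=
    hcd _ (EtColim.isTorsion_pull f hF) q hq _ ⟨m, by rw [← map_nsmul, hm, map_zero]⟩
  have h1 := nsmul_eq_zero_of_Hpull_eq_zero f d hd F q x h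
  exact AddMonoid.addOrderOf_eq_one_iff.1 (Nat.eq_one_of_dvd_coprimes (Nat.Coprime.pow_left m hp)
    (addOrderOf_dvd_of_nsmul_eq_zero hm) (addOrderOf_dvd_of_nsmul_eq_zero h1))

end Groth.Agent.FieldH25
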