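import Groth.Agent.Lib.FieldH25.Unipotent
import Groth.Agent.Lib.EtStalk.JCont
import Groth.Agent.Lib.EtStalk.FiniteStalk
import Groth.Agent.Lib.Azumaya.EtaleSub
import Groth.Prelude.Def_W4c5etcohweilstudentAS
import Mathlib.RingTheory.IsTensorProduct

/-!
# Acyclicity of `G_a` on a field and the Artin–Schreier sequence
-/

set_option autoImplicit false
set_option linter.style.haveILetI false
set_option backward.isDefEq.respectTransparency.types false

universe u

open CategoryTheory CategoryTheory.Limits AlgebraicGeometry Opposite Abelian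
open Groth.Agent.EtStalk

namespace Groth.Agent.FieldH25

section Efface

variable {k : Type u} [Field k]

/-- Every positive degree class dies in the coinduction of a finite Galois extension. -/
theorem exists_efface (n : ℕ) : ∀ (F : EtCoh.Ab (Spec (CommRingCat.of k)))
    (x : EtCoh.H (Spec (CommRingCat.of k)) F (n + 1)),
    ∃ (M : Type u) (_ : Field M) (_ : Algebra k M) (_ : FiniteDimensional k M) (_ : IsGalois k M)
      (_ : AlgebraicGeometry.Etale (specExt k M)),
      x.comp (Ext.mk₀ ((restrPushAdj (specExt k M)).unit.app F)) (add_zero (n + 1)) = 0 := by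
  induction n with
  | zero =>
    intro F x
    let S : ShortComplex (EtCoh.Ab (Spec (CommRingCat.of k))) :=
      ShortComplex.mk (Injective.ι F) (cokernel.π (Injective.ι F)) (cokernel.condition _)
    have hS : S.ShortExact := { exact := ShortComplex.exact_cokernel _ }
    obtain ⟨y, rfl⟩ := Ext.covariant_sequence_exact₁ _ hS x (Ext.eq_zero_of_injective _) (n₀ := 0) rfl
    obtain ⟨M, _, _, _, _, t, ht⟩ := exists_galois_lift S.g (Sheaf.H.equiv₀ S.X₃ isTerminalTop y)
    haveI := etale_spec k M
    haveI := isFinite_specExt k M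
    let f := specExt k M
    refine ⟨M, inferInstance, inferInstance, inferInstance, inferInstance, inferInstance, ?_⟩
    let R := EtShriek.restrAlong f ⋙ EtCoh.push f
    let η : 𝟭 (EtCoh.Ab _) ⟶ R := (restrPushAdj f).unit
    haveI : (EtCoh.push f).IsRightAdjoint := (EtCoh.pullPushAdj f).isRightAdjoint
    haveI : (EtShriek.restrAlong f).IsRightAdjoint := (EtShriek.extZeroAdj f).isRightAdjoint
    haveI : (EtShriek.restrAlong f).IsLeftAdjoint := (restrPushAdj f).isLeftAdjoint
    haveI := preservesFiniteColimits_push_finite f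
    haveI : PreservesFiniteLimits R := inferInstance
    haveI : PreservesFiniteColimits R := inferInstance
    haveI : R.Additive := Functor.additive_of_preserves_binary_products R
    have hRS : (S.map R).ShortExact := hS.map_of_exact R
    let φ : S ⟶ S.map R :=
      { τ₁ := η.app _, τ₂ := η.app _, τ₃ := η.app _
        comm₁₂ := (η.naturality S.f).symm, comm₂₃ := (η.naturality S.g).symm }
    let W := (EtShriek.compEtale f).obj ((EtCoh.bc f).obj (EtCoh.top (Spec (CommRingCat.of k))))
    let a : W ⟶ ext k M := MorphismProperty.Over.homMk (pullback.snd (EtCoh.top (Spec (CommRingCat.of k))).hom f) rfl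
    let z := (Sheaf.H.equiv₀ (R.obj S.X₂) isTerminalTop).symm (S.X₂.obj.map a.op t)
    have hz : Sheaf.H.map (R.map S.g) 0 z = y.comp (Ext.mk₀ (η.app S.X₃)) (add_zero 0) := by
      apply (Sheaf.H.equiv₀ (R.obj S.X₃) isTerminalTop).injective
      rw [← Sheaf.H.equiv₀_naturality, AddEquiv.apply_symm_apply]
      refine Eq.trans ?_ (Sheaf.H.equiv₀_naturality isTerminalTop (η.app S.X₃) y)
      show S.g.hom.app (op W) (S.X₂.obj.map a.op t) =
        S.X₃.obj.map ((compBcAdj f).counit.app (EtCoh.top (Spec (CommRingCat.of k)))).op _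
      rw [NatTrans.naturality_apply, ht, ← ConcreteCategory.comp_apply, ← Functor.map_comp, ← op_comp,
        w_top (a ≫ toTop (ext k M)) ((compBcAdj f).counit.app (EtCoh.top (Spec (CommRingCat.of k))))]
      rfl
    rw [Ext.comp_assoc_of_third_deg_zero]
    refine (congrArg (fun t => y.comp t rfl) (ShortComplex.ShortExact.extClass_naturality hS hRS φ)).trans ?_
    rw [← Ext.comp_assoc_of_second_deg_zero]
    show (y.comp (Ext.mk₀ (η.app S.X₃)) (add_zero 0)).comp hRS.extClass rfl = 0
    rw [← hz]
    show ((z.comp (Ext.mk₀ (S.map R).g) (add_zero 0))).comp hRS.extClass rfl = 0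
    exact (Ext.comp_assoc_of_second_deg_zero _ _ _ _).trans (by erw [hRS.comp_extClass, Ext.comp_zero])
  | succ n ih =>
    intro F x
    let S : ShortComplex (EtCoh.Ab (Spec (CommRingCat.of k))) :=
      ShortComplex.mk (Injective.ι F) (cokernel.π (Injective.ι F)) (cokernel.condition _)
    have hS : S.ShortExact := { exact := ShortComplex.exact_cokernel _ }
    obtain ⟨y, rfl⟩ := Ext.covariant_sequence_exact₁ _ hS x (Ext.eq_zero_of_injective _) (n₀ := n + 1) rfl
    obtain ⟨M, _, _, _, _, hM, hy⟩ := ih _ y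
    refine ⟨M, inferInstance, inferInstance, inferInstance, inferInstance, hM, ?_⟩
    haveI := isFinite_specExt k M
    let f := specExt k M
    let R := EtShriek.restrAlong f ⋙ EtCoh.push f
    let η : 𝟭 (EtCoh.Ab _) ⟶ R := (restrPushAdj f).unit
    haveI : (EtCoh.push f).IsRightAdjoint := (EtCoh.pullPushAdj f).isRightAdjoint
    haveI : (EtShriek.restrAlong f).IsRightAdjoint := (EtShriek.extZeroAdj f).isRightAdjoint
    haveI : (EtShriek.restrAlong f).IsLeftAdjoint := (restrPushAdj f).isLeftAdjoint
    haveI := preservesFiniteColimits_push_finite f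
    haveI : PreservesFiniteLimits R := inferInstance
    haveI : PreservesFiniteColimits R := inferInstance
    haveI : R.Additive := Functor.additive_of_preserves_binary_products R
    have hRS : (S.map R).ShortExact := hS.map_of_exact R
    let φ : S ⟶ S.map R :=
      { τ₁ := η.app _, τ₂ := η.app _, τ₃ := η.app _
        comm₁₂ := (η.naturality S.f).symm, comm₂₃ := (η.naturality S.g).symm }
    rw [Ext.comp_assoc_of_third_deg_zero]
    refine (congrArg (fun t => y.comp t rfl) (ShortComplex.ShortExact.extClass_naturality hS hRS φ)).trans ?_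
    rw [← Ext.comp_assoc_of_second_deg_zero]
    show (y.comp (Ext.mk₀ (η.app S.X₃)) (add_zero _)).comp hRS.extClass rfl = 0
    rw [show y.comp (Ext.mk₀ (η.app S.X₃)) (add_zero (n + 1)) = 0 from hy, Ext.zero_comp]

/-- A sheaf which is a direct summand of its coinductions has no higher cohomology. -/
theorem subsingleton_H_of_retract (F : EtCoh.Ab (Spec (CommRingCat.of k)))
    (h : ∀ (M : Type u) [Field M] [Algebra k M] [FiniteDimensional k M] [IsGalois k M]
      [AlgebraicGeometry.Etale (specExt k M)], IsSplitMono ((restrPushAdj (specExt k M)).unit.app F))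
    {q : ℕ} (hq : 0 < q) : Subsingleton (EtCoh.H (Spec (CommRingCat.of k)) F q) := by
  obtain ⟨n, rfl⟩ := Nat.exists_eq_succ_of_ne_zero hq.ne'
  refine subsingleton_of_forall_eq 0 fun x => ?_
  obtain ⟨M, _, _, _, _, _, hx⟩ := exists_efface n F x
  haveI := h M
  have h1 := congrArg (fun z => z.comp (Ext.mk₀ (retraction ((restrPushAdj (specExt k M)).unit.app F))) (add_zero _)) hx
  rw [Ext.zero_comp, Ext.comp_assoc_of_third_deg_zero, Ext.mk₀_comp_mk₀, IsSplitMono.id] at h1
  exact (Ext.comp_mk₀_id x).symm.trans h1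

end Efface

section Ga

variable (k : Type u) [Field k] (M : Type u) [Field M] [Algebra k M] [AlgebraicGeometry.Etale (specExt k M)]

/-- Sections of `R G_a` over `W` from elements of `M`. -/
noncomputable def sndHom (W : (Spec (CommRingCat.of k)).Etale) : M →+* Γ(((EtCoh.bc (specExt k M)).obj W).left, ⊤) :=
  ((Scheme.ΓSpecIso (CommRingCat.of M)).inv ≫ (pullback.snd W.hom (specExt k M)).appTop).hom

/-- Sections of `R G_a` over `W` from functions on `W`. -/
noncomputable def fstHom (W : (Spec (CommRingCat.of k)).Etale) : Γ(W.left, ⊤) →+* Γ(((EtCoh.bc (specExt k M)).obj W).left, ⊤) :=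
  (pullback.fst W.hom (specExt k M)).appTop.hom

theorem fstHom_nat {W W' : (Spec (CommRingCat.of k)).Etale} (g : W' ⟶ W) (x : Γ(W.left, ⊤)) :
    ((EtCoh.bc (specExt k M)).map g).left.appTop (fstHom k M W x) = fstHom k M W' (g.left.appTop x) := by
  have h : ((EtCoh.bc (specExt k M)).map g).left ≫ pullback.fst W.hom (specExt k M) =
      pullback.fst W'.hom (specExt k M) ≫ g.left := (EtCoh.isPullback_bc_map (specExt k M) g).w
  have h2 := congrArg (fun t => t.appTop) h
  exact congr($h2 x)

theorem sndHom_nat {W W' : (Spec (CommRingCat.of k)).Etale} (g : W' ⟶ W) (m : M) :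
    ((EtCoh.bc (specExt k M)).map g).left.appTop (sndHom k M W m) = sndHom k M W' m := by
  have h : ((EtCoh.bc (specExt k M)).map g).left ≫ pullback.snd W.hom (specExt k M) =
      pullback.snd W'.hom (specExt k M) := MorphismProperty.Over.w ((EtCoh.bc (specExt k M)).map g)
  have h2 := congrArg (fun t => t.appTop) h
  exact congr($h2 ((Scheme.ΓSpecIso (CommRingCat.of M)).inv m))

/-- `x ↦ x ⊗ m`. -/
noncomputable def tmulHom (m : M) :
    EtCoh.Ga (Spec (CommRingCat.of k)) ⟶
      (EtShriek.restrAlong (specExt k M) ⋙ EtCoh.push (specExt k M)).obj (EtCoh.Ga (Spec (CommRingCat.of k))) :=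
  ⟨{ app := fun W => AddCommGrpCat.uliftFunctor.{u + 1}.map (AddCommGrpCat.ofHom
        ((AddMonoidHom.mulRight (sndHom k M W.unop m)).comp (fstHom k M W.unop).toAddMonoidHom))
     naturality := by
       intro W W' g
       ext ⟨x⟩
       refine ULift.ext _ _ ?_
       show fstHom k M W'.unop (g.unop.left.appTop x) * sndHom k M W'.unop m =
         ((EtCoh.bc (specExt k M)).map g.unop).left.appTop (fstHom k M W.unop x * sndHom k M W.unop m)
       rw [map_mul, fstHom_nat, sndHom_nat] }⟩

theorem tmulHom_one : tmulHom k M 1 = (restrPushAdj (specExt k M)).unit.app (EtCoh.Ga (Spec (CommRingCat.of k))) := by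
  refine Sheaf.hom_ext (NatTrans.ext (funext fun W => AddCommGrpCat.ext fun x => ?_))
  refine ULift.ext _ _ ?_
  show fstHom k M W.unop x.down * sndHom k M W.unop 1 = _
  rw [map_one, mul_one]
  rfl

variable [FiniteDimensional k M]

theorem exists_unique_coord {n : ℕ} (b : Module.Basis (Fin n) k M) (W : (Spec (CommRingCat.of k)).Etale)
    [IsAffine W.left] (y : Γ(((EtCoh.bc (specExt k M)).obj W).left, ⊤)) :
    ∃! x : Fin n → Γ(W.left, ⊤), ∑ i, fstHom k M W (x i) * sndHom k M W (b i) = y := by
  let f := specExt k M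
  haveI : IsAffine ((Functor.fromPUnit (Spec (CommRingCat.of k))).obj W.right) :=
    inferInstanceAs (IsAffine (Spec (CommRingCat.of k)))
  haveI : IsAffine ((𝟭 Scheme).obj W.left) := inferInstanceAs (IsAffine W.left)
  let P : Type u := Γ(((EtCoh.bc f).obj W).left, ⊤)
  letI : Algebra k Γ(W.left, ⊤) := ((Scheme.ΓSpecIso (CommRingCat.of k)).inv ≫ W.hom.appTop).hom.toAlgebra
  letI : Algebra Γ(W.left, ⊤) P := (fstHom k M W).toAlgebra
  letI : Algebra M P := (sndHom k M W).toAlgebra
  letI : Algebra k P := ((fstHom k M W).comp (algebraMap k Γ(W.left, ⊤))).toAlgebra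
  haveI : IsScalarTower k Γ(W.left, ⊤) P := IsScalarTower.of_algebraMap_eq fun _ => rfl
  have hcomm : CommRingCat.ofHom (algebraMap k M) ≫ (Scheme.ΓSpecIso (CommRingCat.of M)).inv =
      (Scheme.ΓSpecIso (CommRingCat.of k)).inv ≫ f.appTop := Scheme.ΓSpecIso_inv_naturality _
  have hsq := isPushout_appTop_of_isPullback (IsPullback.of_hasPullback W.hom f)
  haveI : IsScalarTower k M P := IsScalarTower.of_algebraMap_eq fun r => by
    show (pullback.fst W.hom f).appTop (W.hom.appTop ((Scheme.ΓSpecIso (CommRingCat.of k)).inv r)) =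
      (pullback.snd W.hom f).appTop ((Scheme.ΓSpecIso (CommRingCat.of M)).inv (algebraMap k M r))
    have h1 := congr($hcomm r)
    have h2 := congr($(hsq.w) ((Scheme.ΓSpecIso (CommRingCat.of k)).inv r))
    exact h2.trans (congrArg (pullback.snd W.hom f).appTop h1.symm)
  have hpo : IsPushout (CommRingCat.ofHom (algebraMap k Γ(W.left, ⊤))) (CommRingCat.ofHom (algebraMap k M))
      (CommRingCat.ofHom (algebraMap Γ(W.left, ⊤) P)) (CommRingCat.ofHom (algebraMap M P)) := by
    refine hsq.of_iso (Scheme.ΓSpecIso (CommRingCat.of k)) (Iso.refl _) (Scheme.ΓSpecIso (CommRingCat.of M))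
      (Iso.refl _) ?_ ?_ ?_ ?_
    · rw [Iso.refl_hom, Category.comp_id]
      exact ((Scheme.ΓSpecIso (CommRingCat.of k)).hom_inv_id_assoc _).symm
    · exact Scheme.ΓSpecIso_naturality _
    · exact (Category.comp_id _).trans (Category.id_comp _).symm
    · exact (Category.comp_id _).trans ((Scheme.ΓSpecIso (CommRingCat.of M)).hom_inv_id_assoc _).symm
  haveI := CommRingCat.isPushout_iff_isPushout.1 hpo
  have hb : IsBaseChange Γ(W.left, ⊤) (IsScalarTower.toAlgHom k M P).toLinearMap := Algebra.IsPushout.out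
  let B : Module.Basis (Fin n) Γ(W.left, ⊤) P := (Algebra.TensorProduct.basis Γ(W.left, ⊤) b).map hb.equiv
  have hB : ∀ i, B i = sndHom k M W (b i) := fun i => by
    show hb.equiv (Algebra.TensorProduct.basis Γ(W.left, ⊤) b i) = _
    rw [Algebra.TensorProduct.basis_apply, IsBaseChange.equiv_tmul, one_smul]
    rfl
  refine ⟨fun i => B.repr y i, ?_, fun x hx => funext fun i => ?_⟩
  · refine Eq.trans (Finset.sum_congr rfl fun i _ => ?_) (B.sum_repr y)
    rw [hB, Algebra.smul_def]
    rfl
  · have h1 : y = ∑ i, x i • B i := hx.symm.trans (Finset.sum_congr rfl fun i _ => by rw [hB, Algebra.smul_def]; rfl)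
    show x i = B.repr y i
    rw [h1, B.repr_sum_self]

theorem isSplitMono_unit_Ga :
    IsSplitMono ((restrPushAdj (specExt k M)).unit.app (EtCoh.Ga (Spec (CommRingCat.of k)))) := by
  classical
  have hli : LinearIndepOn k id ({1} : Set M) := (linearIndepOn_singleton_iff k).2 one_ne_zero
  let s : Set M := hli.extend (Set.subset_univ _)
  have h1s : (1 : M) ∈ s := hli.subset_extend _ rfl
  let bs : Module.Basis s k M := Module.Basis.extend hli
  haveI : Fintype s := FiniteDimensional.fintypeBasisIndex bs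
  let b : Module.Basis (Fin (Fintype.card s)) k M := bs.reindex (Fintype.equivFin s)
  let i₀ := Fintype.equivFin s ⟨1, h1s⟩
  have hb₀ : b i₀ = 1 := by
    rw [Module.Basis.reindex_apply, Equiv.symm_apply_apply]
    exact Module.Basis.extend_apply_self _ ⟨1, h1s⟩
  let G := EtCoh.Ga (Spec (CommRingCat.of k))
  let θ : (⨁ fun _ : Fin (Fintype.card s) => G) ⟶ _ := biproduct.desc fun i => tmulHom k M (b i)
  let ev := fun W : (Spec (CommRingCat.of k)).Etale =>
    sheafToPresheaf (Spec (CommRingCat.of k)).smallEtaleTopology AddCommGrpCat.{u + 1} ⋙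
      (evaluation _ AddCommGrpCat.{u + 1}).obj (op W)
  haveI hadd : ∀ W, (ev W).Additive := fun W => { }
  have hθ : ∀ (W : (Spec (CommRingCat.of k)).Etale) (σ : (⨁ fun _ : Fin (Fintype.card s) => G).obj.obj (op W)),
      θ.hom.app (op W) σ = ∑ i, (tmulHom k M (b i)).hom.app (op W)
        ((biproduct.π (fun _ : Fin (Fintype.card s) => G) i).hom.app (op W) σ) := by
    intro W σ
    have h : θ = ∑ i, biproduct.π (fun _ : Fin (Fintype.card s) => G) i ≫ tmulHom k M (b i) := biproduct.desc_eq
    show (ev W).map θ σ = _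
    rw [h]
    exact map_sum (AddMonoidHom.mk' (fun φ => (ev W).map φ σ) (fun a b => by rw [Functor.map_add]; rfl)) _ _
  have hσ : ∀ (W : (Spec (CommRingCat.of k)).Etale) (σ : (⨁ fun _ : Fin (Fintype.card s) => G).obj.obj (op W)),
      σ = ∑ i, (biproduct.ι (fun _ : Fin (Fintype.card s) => G) i).hom.app (op W)
        ((biproduct.π (fun _ : Fin (Fintype.card s) => G) i).hom.app (op W) σ) := by
    intro W σ
    conv_lhs => rw [show σ = (ev W).map (𝟙 (⨁ fun _ : Fin (Fintype.card s) => G)) σ from
      (ConcreteCategory.congr_hom ((ev W).map_id _) σ).symm]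
    rw [← biproduct.total]
    exact map_sum (AddMonoidHom.mk' (fun φ => (ev W).map φ σ) (fun a b => by rw [Functor.map_add]; rfl)) _ _
  have key : ∀ (W : (Spec (CommRingCat.of k)).Etale) [IsAffine W.left],
      Function.Bijective (θ.hom.app (op W)) := by
    intro W _
    constructor
    · refine (injective_iff_map_eq_zero (θ.hom.app (op W)).hom).2 fun σ h0 => ?_
      obtain ⟨x, -, hu⟩ := exists_unique_coord k M b W 0
      have h2 : (fun i => ((biproduct.π (fun _ : Fin (Fintype.card s) => G) i).hom.app (op W) σ).down) =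
          (fun _ => (0 : Γ(W.left, ⊤))) := by
        refine (hu _ ?_).trans (hu _ ?_).symm
        · have h3 := congrArg ULift.down ((hθ W σ).symm.trans h0)
          refine Eq.trans ?_ h3
          exact (map_sum (AddEquiv.ulift (α := Γ(((EtCoh.bc (specExt k M)).obj W).left, ⊤))).toAddMonoidHom _ _).symm
        · simp
      rw [hσ W σ]
      refine Finset.sum_eq_zero fun i _ => ?_
      rw [show (biproduct.π (fun _ : Fin (Fintype.card s) => G) i).hom.app (op W) σ = 0 from
        ULift.ext _ _ (congrFun h2 i), map_zero]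
    · intro τ
      obtain ⟨x, hx, -⟩ := exists_unique_coord k M b W τ.down
      refine ⟨∑ i, (biproduct.ι (fun _ : Fin (Fintype.card s) => G) i).hom.app (op W) (ULift.up (x i)), ?_⟩
      rw [map_sum]
      refine Eq.trans (Finset.sum_congr rfl fun i _ => ?_) (ULift.ext _ τ
        ((map_sum (AddEquiv.ulift (α := Γ(((EtCoh.bc (specExt k M)).obj W).left, ⊤))).toAddMonoidHom
          (fun i => (tmulHom k M (b i)).hom.app (op W) (ULift.up (x i))) Finset.univ).trans hx))
      rw [← ConcreteCategory.comp_apply, ← NatTrans.comp_app, ← ObjectProperty.FullSubcategory.comp_hom,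
        biproduct.ι_desc]
  haveI : Mono θ := by
    rw [mono_iff_app_injective]
    rintro ⟨W⟩ σ τ h
    refine eq_of_agree _ fun z => ?_
    obtain ⟨A, hA, hzA, -⟩ := exists_isAffineOpen_mem_and_subset (X := W.left) (x := z) (U := ⊤) trivial
    haveI : IsAffine (EtSite.sub W A).left := hA
    refine ⟨EtSite.sub W A, EtSite.subHom W A, ⟨⟨z, hzA⟩, rfl⟩, (key (EtSite.sub W A)).1 ?_⟩
    rw [NatTrans.naturality_apply, NatTrans.naturality_apply, h]
  haveI : Epi θ := by
    rw [← Sheaf.isLocallySurjective_iff_epi']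
    refine ⟨fun {W} τ => ?_⟩
    rw [EtSite.mem_et_iff]
    intro z
    obtain ⟨A, hA, hzA, -⟩ := exists_isAffineOpen_mem_and_subset (X := W.left) (x := z) (U := ⊤) trivial
    haveI : IsAffine (EtSite.sub W A).left := hA
    exact ⟨EtSite.sub W A, EtSite.subHom W A, ⟨z, hzA⟩, (key (EtSite.sub W A)).2 _, rfl⟩
  haveI := isIso_of_mono_of_epi θ
  refine IsSplitMono.mk' ⟨inv θ ≫ biproduct.π (fun _ : Fin (Fintype.card s) => G) i₀, ?_⟩
  have h : (restrPushAdj (specExt k M)).unit.app (EtCoh.Ga (Spec (CommRingCat.of k))) =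
      biproduct.ι (fun _ : Fin (Fintype.card s) => G) i₀ ≫ θ := by
    rw [biproduct.ι_desc, hb₀, tmulHom_one]
  rw [h, Category.assoc, IsIso.hom_inv_id_assoc, biproduct.ι_π_self]
  rfl

end Ga

/-- `G_a` has no higher cohomology on a field. -/
theorem subsingleton_H_Ga (k : Type u) [Field k] {q : ℕ} (hq : 0 < q) :
    Subsingleton (EtCoh.H (Spec (CommRingCat.of k)) (EtCoh.Ga _) q) :=
  subsingleton_H_of_retract _ (fun M _ _ _ _ _ => isSplitMono_unit_Ga k M) hq

/-- The Artin–Schreier endomorphism is an epimorphism. -/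
theorem epi_artinSchreier (p : ℕ) (hp : p.Prime) {X : Scheme.{u}} (h0 : (p : Γ(X, ⊤)) = 0) :
    Epi (W4c5etcohweilstudent.artinSchreierEndo X p hp h0) := by
  rw [← Sheaf.isLocallySurjective_iff_epi']
  refine ⟨fun {U} s => ?_⟩
  rw [EtSite.mem_et_iff]
  intro z
  obtain ⟨O, hO, hzO, -⟩ := exists_isAffineOpen_mem_and_subset (X := U.left) (x := z) (U := ⊤) trivial
  let W := EtSite.sub U O
  haveI : IsAffine W.left := hO
  haveI : Nonempty W.left := ⟨⟨z, hzO⟩⟩
  let A := Γ(W.left, ⊤)
  let a : A := (EtSite.subHom U O).left.appTop s.down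
  have hpA : (p : A) = 0 := W4c5etcohweilstudent.natCast_eq_zero_etale p h0 W
  haveI : Nontrivial A := @Scheme.component_nontrivial W.left ⊤ ⟨⟨⟨z, hzO⟩, trivial⟩⟩
  let f : Polynomial A := Polynomial.X ^ p - (Polynomial.X + Polynomial.C a)
  have hf : f.Monic := Polynomial.monic_X_pow_sub (by
    rw [Polynomial.degree_X_add_C]
    exact_mod_cast hp.one_lt)
  have hsep : f.Separable := by
    refine ⟨0, -1, ?_⟩
    simp [f, Polynomial.derivative_X_pow, hpA]
  haveI := Azumaya.etale_adjoinRoot f hf hsep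
  haveI := hf.free_adjoinRoot
  haveI := hf.finite_adjoinRoot
  have hdeg : f.natDegree = p := by
    refine (Polynomial.natDegree_sub_eq_left_of_natDegree_lt ?_).trans (Polynomial.natDegree_X_pow p)
    rw [Polynomial.natDegree_X_pow, Polynomial.natDegree_X_add_C]
    exact hp.one_lt
  haveI : Nontrivial (AdjoinRoot f) :=
    Module.nontrivial_of_finrank_pos (R := A) (by
      rw [(AdjoinRoot.powerBasis' hf).finrank, AdjoinRoot.powerBasis'_dim, hdeg]
      exact hp.pos)
  haveI : AlgebraicGeometry.Etale (Spec.map (CommRingCat.ofHom (algebraMap A (AdjoinRoot f)))) := by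
    rw [HasRingHomProperty.Spec_iff (P := @Etale)]
    exact RingHom.etale_algebraMap.2 inferInstance
  let c : Spec (CommRingCat.of (AdjoinRoot f)) ⟶ W.left :=
    Spec.map (CommRingCat.ofHom (algebraMap A (AdjoinRoot f))) ≫ W.left.isoSpec.inv
  haveI : AlgebraicGeometry.Etale W.hom := W.prop
  haveI : AlgebraicGeometry.Etale c := inferInstanceAs (AlgebraicGeometry.Etale (_ ≫ _))
  let V : X.Etale := MorphismProperty.Over.mk ⊤ (c ≫ W.hom) (show AlgebraicGeometry.Etale _ from inferInstance)
  let h : V ⟶ W := MorphismProperty.Over.homMk c rfl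
  haveI : Module.FaithfullyFlat A (AdjoinRoot f) := inferInstance
  obtain ⟨v, hv⟩ := PrimeSpectrum.comap_surjective_of_faithfullyFlat (A := A) (B := AdjoinRoot f)
    (W.left.isoSpec.hom ⟨z, hzO⟩)
  refine ⟨V, h ≫ EtSite.subHom U O, v, ⟨ULift.up ((Scheme.ΓSpecIso (CommRingCat.of (AdjoinRoot f))).inv (AdjoinRoot.root f)), ?_⟩, ?_⟩
  · refine ULift.ext _ _ ?_
    show ((Scheme.ΓSpecIso (CommRingCat.of (AdjoinRoot f))).inv (AdjoinRoot.root f)) ^ p -
      (Scheme.ΓSpecIso (CommRingCat.of (AdjoinRoot f))).inv (AdjoinRoot.root f) = c.appTop a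
    rw [← map_pow, ← map_sub]
    have hc : c.appTop = CommRingCat.ofHom (algebraMap A (AdjoinRoot f)) ≫
        (Scheme.ΓSpecIso (CommRingCat.of (AdjoinRoot f))).inv := by
      rw [Scheme.Hom.comp_appTop, Scheme.ΓSpecIso_inv_naturality]
      congr 1
      rw [← cancel_mono (Scheme.ΓSpecIso A).hom]
      refine Eq.trans ?_ ((Scheme.ΓSpecIso A).inv_hom_id).symm
      refine (congrArg (_ ≫ ·) (Scheme.toSpecΓ_appTop W.left).symm).trans ?_
      rw [← Scheme.Hom.comp_appTop, Scheme.toSpecΓ_isoSpec_inv]
      rfl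
    rw [hc]
    refine congrArg (Scheme.ΓSpecIso (CommRingCat.of (AdjoinRoot f))).inv ?_
    show _ = algebraMap A (AdjoinRoot f) a
    have h1 := AdjoinRoot.eval₂_root f
    simp only [f, Polynomial.eval₂_sub, Polynomial.eval₂_add, Polynomial.eval₂_X_pow, Polynomial.eval₂_X,
      Polynomial.eval₂_C] at h1
    rw [AdjoinRoot.algebraMap_eq]
    linear_combination h1
  · show (EtSite.subHom U O).left (W.left.isoSpec.inv (Spec.map (CommRingCat.ofHom (algebraMap A (AdjoinRoot f))) v)) = z
    have hv' : Spec.map (CommRingCat.ofHom (algebraMap A (AdjoinRoot f))) v = W.left.isoSpec.hom ⟨z, hzO⟩ := hv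
    rw [hv', show W.left.isoSpec.inv (W.left.isoSpec.hom ⟨z, hzO⟩) = ⟨z, hzO⟩ by
      rw [← Scheme.Hom.comp_apply, Iso.hom_inv_id]
      rfl]
    rfl

end Groth.Agent.FieldH25
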