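import Groth.Agent.Lib.FieldH25.Sections
import Mathlib.Algebra.Homology.DerivedCategory.Ext.ExactSequences
import Mathlib.Algebra.Homology.DerivedCategory.Ext.EnoughInjectives
import Mathlib.CategoryTheory.Abelian.GrothendieckCategory.EnoughInjectives

/-!
# Étale cohomology of a field is torsion in positive degrees
-/

set_option autoImplicit false
set_option linter.style.haveILetI false
set_option backward.isDefEq.respectTransparency.types false

universe u

open CategoryTheory CategoryTheory.Limits AlgebraicGeometry Opposite Abelian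

namespace Groth.Agent.FieldH25

variable {k : Type u} [Field k]

/-- The final object of the small étale site is terminal. -/
noncomputable def isTerminalTop : IsTerminal (EtCoh.top (Spec (CommRingCat.of k))) :=
  IsTerminal.ofUniqueHom (fun W => toTop W) (fun _ m => w_top m _)

theorem isOfFinAddOrder_H_succ (n : ℕ) : ∀ (F : EtCoh.Ab (Spec (CommRingCat.of k)))
    (x : EtCoh.H (Spec (CommRingCat.of k)) F (n + 1)), IsOfFinAddOrder x := by
  induction n with
  | zero =>
    intro F x
    let S : ShortComplex (EtCoh.Ab (Spec (CommRingCat.of k))) :=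
      ShortComplex.mk (Injective.ι F) (cokernel.π (Injective.ι F)) (cokernel.condition _)
    have hS : S.ShortExact := { exact := ShortComplex.exact_cokernel _ }
    obtain ⟨y, rfl⟩ := Ext.covariant_sequence_exact₁ _ hS x (Ext.eq_zero_of_injective _) (n₀ := 0) rfl
    obtain ⟨N, hN, t, ht⟩ := exists_nsmul_lift S.g (Sheaf.H.equiv₀ S.X₃ isTerminalTop y)
    have h1 : Sheaf.H.map S.g 0 ((Sheaf.H.equiv₀ S.X₂ isTerminalTop).symm t) = N • y := by
      apply (Sheaf.H.equiv₀ S.X₃ isTerminalTop).injective
      rw [← Sheaf.H.equiv₀_naturality, AddEquiv.apply_symm_apply, map_nsmul]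
      exact ht
    refine isOfFinAddOrder_iff_nsmul_eq_zero.2 ⟨N, hN, ?_⟩
    refine (map_nsmul (hS.extClass.postcomp _ (rfl : 0 + 1 = 1)) N y).symm.trans ?_
    rw [← h1]
    show (((Sheaf.H.equiv₀ S.X₂ isTerminalTop).symm t).comp (Ext.mk₀ S.g) (add_zero 0)).comp hS.extClass rfl = 0
    rw [Ext.comp_assoc_of_second_deg_zero, hS.comp_extClass, Ext.comp_zero]
  | succ n ih =>
    intro F x
    let S : ShortComplex (EtCoh.Ab (Spec (CommRingCat.of k))) :=
      ShortComplex.mk (Injective.ι F) (cokernel.π (Injective.ι F)) (cokernel.condition _)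
    have hS : S.ShortExact := { exact := ShortComplex.exact_cokernel _ }
    obtain ⟨y, rfl⟩ := Ext.covariant_sequence_exact₁ _ hS x (Ext.eq_zero_of_injective _) (n₀ := n + 1) rfl
    exact (hS.extClass.postcomp _ rfl).isOfFinAddOrder (ih _ y)

/-- Positive degree étale cohomology of a field is torsion. -/
theorem isOfFinAddOrder_H (F : EtCoh.Ab (Spec (CommRingCat.of k))) {i : ℕ} (hi : 0 < i)
    (x : EtCoh.H (Spec (CommRingCat.of k)) F i) : IsOfFinAddOrder x := by
  obtain ⟨n, rfl⟩ := Nat.exists_eq_succ_of_ne_zero hi.ne'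
  exact isOfFinAddOrder_H_succ n F x

/-- Sheaves with all multiplications invertible have no higher cohomology. -/
theorem subsingleton_H_of_divisible (F : EtCoh.Ab (Spec (CommRingCat.of k))) (hdiv : ∀ n : ℕ, 0 < n → IsIso (n • 𝟙 F))
    {i : ℕ} (hi : 0 < i) : Subsingleton (EtCoh.H (Spec (CommRingCat.of k)) F i) := by
  refine subsingleton_of_forall_eq 0 fun x => ?_
  obtain ⟨N, hN, hx⟩ := isOfFinAddOrder_iff_nsmul_eq_zero.1 (isOfFinAddOrder_H F hi x)
  haveI := hdiv N hN
  have h1 : Sheaf.H.map (inv (N • 𝟙 F)) i (Sheaf.H.map (N • 𝟙 F) i x) = x := by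
    rw [← Sheaf.H.map_comp_apply, IsIso.hom_inv_id, Sheaf.H.map_id_apply]
  have h2 : ∀ m : ℕ, Sheaf.H.map (m • 𝟙 F) i x = m • x := by
    intro m
    induction m with
    | zero =>
      rw [zero_nsmul, zero_nsmul]
      have h := Sheaf.H.map_add_apply (0 : F ⟶ F) 0 x
      rw [add_zero] at h
      exact left_eq_add.1 h
    | succ m ih => rw [succ_nsmul, succ_nsmul, Sheaf.H.map_add_apply, ih, Sheaf.H.map_id_apply]
  rw [← h1, h2 N, hx, map_zero]

end Groth.Agent.FieldH25
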