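import Groth.Agent.Lib.FieldH25.Torsion
import Groth.Prelude.Def_EtGm
import Mathlib.RepresentationTheory.Homological.GroupCohomology.Hilbert90

/-!
# First cohomology of a field: criterion, and Hilbert 90 for the multiplicative group
-/

set_option autoImplicit false
set_option linter.style.haveILetI false
set_option backward.isDefEq.respectTransparency.types false

universe u

open CategoryTheory CategoryTheory.Limits AlgebraicGeometry Opposite Abelian

namespace Groth.Agent.FieldH25

variable {k : Type u} [Field k]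

/-- The action of an automorphism on the sections over a Galois extension. -/
noncomputable def galAct (F : EtCoh.Ab (Spec (CommRingCat.of k))) {M : Type u} [Field M] [Algebra k M]
    [FiniteDimensional k M] [Algebra.IsSeparable k M] (γ : M ≃ₐ[k] M) :
    F.obj.obj (op (ext k M)) →+ F.obj.obj (op (ext k M)) :=
  (F.obj.map (extMap k γ.toAlgHom).op).hom

theorem galAct_mul (F : EtCoh.Ab (Spec (CommRingCat.of k))) {M : Type u} [Field M] [Algebra k M]
    [FiniteDimensional k M] [Algebra.IsSeparable k M] (σ τ : M ≃ₐ[k] M) (t : F.obj.obj (op (ext k M))) :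
    galAct F (σ * τ) t = galAct F σ (galAct F τ t) := by
  show F.obj.map _ t = F.obj.map _ (F.obj.map _ t)
  rw [← ConcreteCategory.comp_apply, ← Functor.map_comp, ← op_comp, extMap_comp]
  rfl

theorem galAct_natural {F G : EtCoh.Ab (Spec (CommRingCat.of k))} (f : F ⟶ G) {M : Type u} [Field M] [Algebra k M]
    [FiniteDimensional k M] [Algebra.IsSeparable k M] (σ : M ≃ₐ[k] M) (t : F.obj.obj (op (ext k M))) :
    f.hom.app _ (galAct F σ t) = galAct G σ (f.hom.app _ t) := by
  have h1 := ConcreteCategory.congr_hom (f.hom.naturality (extMap k σ.toAlgHom).op) t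
  simp only [ConcreteCategory.comp_apply] at h1
  exact h1

variable (k) in
theorem toTop_ext_surjective (M : Type u) [Field M] [Algebra k M] [FiniteDimensional k M] [Algebra.IsSeparable k M]
    (z : (EtCoh.top (Spec (CommRingCat.of k))).left) : z ∈ Set.range (toTop (ext k M)).left :=
  ⟨IsLocalRing.closedPoint M, Subsingleton.elim (α := PrimeSpectrum k) _ _⟩

theorem map_toTop_injective (F : EtCoh.Ab (Spec (CommRingCat.of k))) (M : Type u) [Field M] [Algebra k M]
    [FiniteDimensional k M] [Algebra.IsSeparable k M] :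
    Function.Injective (F.obj.map (toTop (ext k M)).op) :=
  fun _ _ h => EtStalk.eq_of_agree F fun z => ⟨ext k M, toTop _, toTop_ext_surjective k M z, h⟩

/-- Galois invariant sections descend. -/
theorem exists_descend (F : EtCoh.Ab (Spec (CommRingCat.of k))) (M : Type u) [Field M] [Algebra k M]
    [FiniteDimensional k M] [IsGalois k M] (T₀ : F.obj.obj (op (ext k M))) (hinv : ∀ γ, galAct F γ T₀ = T₀) :
    ∃ T, F.obj.map (toTop (ext k M)).op T = T₀ := by
  let W := ext k M
  have hcomp : ∀ ⦃Z : (Spec (CommRingCat.of k)).Etale⦄ (a b : Z ⟶ W), F.obj.map a.op T₀ = F.obj.map b.op T₀ := by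
    intro Z a b
    refine EtStalk.eq_of_agree F fun z => ?_
    obtain ⟨L', _, _, _, _, m', hm'⟩ := exists_ext_point k Z z
    obtain ⟨a', ha'⟩ := exists_extMap_eq k (m' ≫ a)
    obtain ⟨b', hb'⟩ := exists_extMap_eq k (m' ≫ b)
    obtain ⟨γ, hγ⟩ := exists_comp_eq k M L' a' b'
    refine ⟨ext k L', m', hm', ?_⟩
    rw [← ConcreteCategory.comp_apply, ← Functor.map_comp, ← op_comp, ← ha', ← ConcreteCategory.comp_apply,
      ← Functor.map_comp, ← op_comp, ← hb', ← hγ, ← extMap_comp, op_comp, Functor.map_comp, ConcreteCategory.comp_apply]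
    congr 1
    exact (hinv γ).symm
  have hcov : Sieve.generate (Presieve.singleton (toTop W)) ∈
      (Spec (CommRingCat.of k)).smallEtaleTopology (EtCoh.top (Spec (CommRingCat.of k))) := by
    rw [Scheme.smallEtaleTopology, Scheme.smallGrothendieckTopology_eq_toGrothendieck_smallPretopology _ le_rfl]
    refine (Scheme.mem_toGrothendieck_smallPretopology _ _).2 fun x => ?_
    refine ⟨W, toTop W, IsLocalRing.closedPoint M, Sieve.le_generate _ _ _ ⟨⟩, W.prop, ?_⟩
    exact Subsingleton.elim (α := PrimeSpectrum k) _ _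
  have hsheaf : Presieve.IsSheafFor (F.obj ⋙ CategoryTheory.forget _) (Presieve.singleton (toTop W)) := by
    rw [Presieve.isSheafFor_iff_generate]
    exact (isSheaf_iff_isSheaf_of_type _ _).1 ((Presheaf.isSheaf_iff_isSheaf_forget _ _ (CategoryTheory.forget _)).1 F.property) _ hcov
  obtain ⟨T, hT, -⟩ := Presieve.isSheafFor_singleton.1 hsheaf T₀ fun a b _ => hcomp a b
  exact ⟨T, hT⟩

/-- Sections of an epimorphism lift over a finite Galois extension. -/
theorem exists_galois_lift {I Q : EtCoh.Ab (Spec (CommRingCat.of k))} (g : I ⟶ Q) [Epi g]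
    (s : Q.obj.obj (op (EtCoh.top (Spec (CommRingCat.of k))))) :
    ∃ (M : Type u) (_ : Field M) (_ : Algebra k M) (_ : FiniteDimensional k M) (_ : IsGalois k M)
      (t : I.obj.obj (op (ext k M))), g.hom.app _ t = Q.obj.map (toTop (ext k M)).op s := by
  haveI hls : Sheaf.IsLocallySurjective g := (Sheaf.isLocallySurjective_iff_epi' _ g).2 inferInstance
  have hS := Presheaf.imageSieve_mem (Spec (CommRingCat.of k)).smallEtaleTopology g.hom s
  have e : (Spec (CommRingCat.of k)).smallEtaleTopology =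
      ((Spec (CommRingCat.of k)).smallPretopology (P := EtCoh.etaleMP) (Q := EtCoh.etaleMP)).toGrothendieck :=
    Scheme.smallGrothendieckTopology_eq_toGrothendieck_smallPretopology _ le_rfl
  replace hS := (Scheme.mem_toGrothendieck_smallPretopology _ _).1
    ((congrArg (fun J : GrothendieckTopology (Spec (CommRingCat.of k)).Etale =>
      Presheaf.imageSieve g.hom s ∈ J (EtCoh.top (Spec (CommRingCat.of k)))) e).mp hS)
  obtain ⟨V, h, v, ⟨t, ht⟩, -, -⟩ := hS (IsLocalRing.closedPoint k)
  obtain ⟨L, _, _, _, _, m, -⟩ := exists_ext_point k V v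
  let Ω := SeparableClosure k
  let φ : L →ₐ[k] Ω := IsSepClosed.lift
  letI : Algebra L Ω := φ.toRingHom.toAlgebra
  haveI : IsScalarTower k L Ω := IsScalarTower.of_algebraMap_eq fun x => (φ.commutes x).symm
  let M := IntermediateField.normalClosure k L Ω
  haveI : FiniteDimensional k M := normalClosure.is_finiteDimensional k L Ω
  haveI : IsGalois k M := IsGalois.normalClosure k L Ω
  let a₀ : L →ₐ[k] M := φ.codRestrict M.toSubalgebra fun x => φ.fieldRange_le_normalClosure ⟨x, rfl⟩
  refine ⟨M, inferInstance, inferInstance, inferInstance, inferInstance, I.obj.map (extMap k a₀ ≫ m).op t, ?_⟩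
  have h1 := ConcreteCategory.congr_hom (g.hom.naturality (extMap k a₀ ≫ m).op) t
  simp only [ConcreteCategory.comp_apply] at h1
  rw [h1, ht, ← ConcreteCategory.comp_apply, ← Functor.map_comp, ← op_comp,
    w_top ((extMap k a₀ ≫ m) ≫ h) (toTop _)]

/-- If all finite cocycles split, first cohomology vanishes. -/
theorem subsingleton_H_one (F : EtCoh.Ab (Spec (CommRingCat.of k)))
    (h : ∀ (M : Type u) [Field M] [Algebra k M] [FiniteDimensional k M] [IsGalois k M]
      (c : (M ≃ₐ[k] M) → F.obj.obj (op (ext k M))), (∀ σ τ, c (σ * τ) = galAct F σ (c τ) + c σ) →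
        ∃ a, ∀ σ, c σ = galAct F σ a - a) :
    Subsingleton (EtCoh.H (Spec (CommRingCat.of k)) F 1) := by
  refine subsingleton_of_forall_eq 0 fun x => ?_
  let S : ShortComplex (EtCoh.Ab (Spec (CommRingCat.of k))) :=
    ShortComplex.mk (Injective.ι F) (cokernel.π (Injective.ι F)) (cokernel.condition _)
  have hS : S.ShortExact := { exact := ShortComplex.exact_cokernel _ }
  obtain ⟨y, rfl⟩ := Ext.covariant_sequence_exact₁ _ hS x (Ext.eq_zero_of_injective _) (n₀ := 0) rfl
  obtain ⟨M, _, _, _, _, t, ht⟩ := exists_galois_lift S.g (Sheaf.H.equiv₀ S.X₃ isTerminalTop y)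
  let G := sheafToPresheaf (Spec (CommRingCat.of k)).smallEtaleTopology AddCommGrpCat.{u + 1} ⋙ (evaluation _ AddCommGrpCat.{u + 1}).obj (op (ext k M))
  haveI : G.Additive := { }
  haveI : PreservesFiniteLimits G := inferInstance
  have hex : (S.map G).Exact := hS.exact.map_of_mono_of_preservesKernel _ hS.mono_f inferInstance
  have hinj : Function.Injective (S.f.hom.app (op (ext k M))) :=
    (AddCommGrpCat.mono_iff_injective _).1 (inferInstanceAs (Mono (G.map (Injective.ι F))))
  have hker : ∀ σ : M ≃ₐ[k] M, ∃ a : F.obj.obj (op (ext k M)), S.f.hom.app _ a = galAct S.X₂ σ t - t := by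
    intro σ
    refine (ShortComplex.ab_exact_iff _).1 hex (galAct S.X₂ σ t - t) ?_
    show S.g.hom.app _ (galAct S.X₂ σ t - t) = 0
    rw [map_sub, galAct_natural, ht, sub_eq_zero]
    show S.X₃.obj.map _ (S.X₃.obj.map _ _) = _
    rw [← ConcreteCategory.comp_apply, ← Functor.map_comp, ← op_comp,
      w_top ((extMap k σ.toAlgHom) ≫ toTop (ext k M)) (toTop _)]
  choose c hc using hker
  obtain ⟨a, ha⟩ := h M c fun σ τ => hinj (by
    rw [map_add, galAct_natural, hc, hc, hc, galAct_mul, map_sub]
    abel)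
  obtain ⟨T, hT⟩ := exists_descend S.X₂ M (t - S.f.hom.app _ a) fun σ => by
    have h1 := hc σ
    rw [ha σ, map_sub, galAct_natural] at h1
    rw [map_sub, ← sub_eq_zero]
    calc _ = (galAct S.X₂ σ t - t) - (galAct S.X₂ σ (S.f.hom.app _ a) - S.f.hom.app _ a) := by abel
      _ = 0 := by rw [← h1, sub_self]
  have h2 : S.g.hom.app _ T = Sheaf.H.equiv₀ S.X₃ isTerminalTop y := by
    refine map_toTop_injective S.X₃ M ?_
    have h1 := ConcreteCategory.congr_hom (S.g.hom.naturality (toTop (ext k M)).op) T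
    simp only [ConcreteCategory.comp_apply] at h1
    rw [← h1, hT, map_sub, ht, ← ConcreteCategory.comp_apply, ← NatTrans.comp_app]
    simp [S, ← ObjectProperty.FullSubcategory.comp_hom]
  have h3 : Sheaf.H.map S.g 0 ((Sheaf.H.equiv₀ S.X₂ isTerminalTop).symm T) = y := by
    apply (Sheaf.H.equiv₀ S.X₃ isTerminalTop).injective
    rw [← Sheaf.H.equiv₀_naturality, AddEquiv.apply_symm_apply]
    exact h2
  rw [← h3]
  show (((Sheaf.H.equiv₀ S.X₂ isTerminalTop).symm T).comp (Ext.mk₀ S.g) (add_zero 0)).comp hS.extClass rfl = 0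
  rw [Ext.comp_assoc_of_second_deg_zero, hS.comp_extClass, Ext.comp_zero]

/-- Hilbert 90: the multiplicative group of a field has no first cohomology. -/
theorem subsingleton_H_one_Gm : Subsingleton (EtCoh.H (Spec (CommRingCat.of k)) (EtCoh.Gm _) 1) := by
  refine subsingleton_H_one _ ?_
  intro M _ _ _ _ c hc
  let u : Mˣ ≃* (Γ(Spec (CommRingCat.of M), ⊤) : Type u)ˣ :=
    Units.mapEquiv (Scheme.ΓSpecIso (CommRingCat.of M)).commRingCatIsoToRingEquiv.symm.toMulEquiv
  let ψ : Additive Mˣ ≃+ (EtCoh.Gm (Spec (CommRingCat.of k))).obj.obj (op (ext k M)) :=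
    (MulEquiv.toAdditive u).trans AddEquiv.ulift.symm
  have hψ : ∀ (σ : M ≃ₐ[k] M) (m : Mˣ), galAct _ σ (ψ (Additive.ofMul m)) = ψ (Additive.ofMul (σ • m)) := by
    intro σ m
    refine ULift.ext _ _ (congrArg Additive.ofMul (Units.ext ?_))
    exact (congr($(Scheme.ΓSpecIso_inv_naturality (CommRingCat.ofHom σ.toAlgHom.toRingHom)) (m : M))).symm
  let f : (M ≃ₐ[k] M) → Mˣ := fun σ => Additive.toMul (ψ.symm (c σ))
  have hf : ∀ σ, c σ = ψ (Additive.ofMul (f σ)) := fun σ => (ψ.apply_symm_apply _).symm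
  obtain ⟨x, hx⟩ := groupCohomology.isMulCoboundary₁_of_isMulCocycle₁_of_aut_to_units f (fun σ τ => by
    refine Additive.ofMul.injective (ψ.injective ?_)
    rw [ofMul_mul, map_add, ← hf, ← hψ, ← hf, ← hf]
    exact hc σ τ)
  refine ⟨ψ (Additive.ofMul x), fun σ => ?_⟩
  rw [hψ, ← map_sub, ← ofMul_div, hx, ← hf]

end Groth.Agent.FieldH25
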