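import Groth.Agent.Lib.FieldH25.Torsion
import Mathlib.Algebra.Category.Grp.Abelian
import Mathlib.CategoryTheory.Sites.ConstantSheaf
import Mathlib.Algebra.Homology.ShortComplex.Ab
import Mathlib.Algebra.Homology.ShortComplex.ExactFunctor

/-!
# `H^{i+1}(k, ℤ) = H^i(k, ℚ/ℤ)` for positive `i`
-/

set_option autoImplicit false
set_option linter.style.haveILetI false
set_option backward.isDefEq.respectTransparency.types false

universe u

open CategoryTheory CategoryTheory.Limits AlgebraicGeometry Opposite Abelian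

namespace Groth.Agent.FieldH25

variable (X : Scheme.{u})

/-- The constant sheaf functor on the small étale site. -/
noncomputable abbrev constF : AddCommGrpCat.{u + 1} ⥤ EtCoh.Ab X :=
  constantSheaf X.smallEtaleTopology AddCommGrpCat.{u + 1}

instance constF_preservesFiniteLimits : PreservesFiniteLimits (constF X) := by
  show PreservesFiniteLimits (Functor.const _ ⋙ presheafToSheaf _ _)
  haveI : PreservesFiniteLimits (Functor.const X.Etaleᵒᵖ : AddCommGrpCat.{u + 1} ⥤ _) :=
    ⟨fun J _ _ => inferInstance⟩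
  infer_instance

instance constF_preservesFiniteColimits : PreservesFiniteColimits (constF X) := by
  show PreservesFiniteColimits (Functor.const _ ⋙ presheafToSheaf _ _)
  haveI : PreservesFiniteColimits (Functor.const X.Etaleᵒᵖ : AddCommGrpCat.{u + 1} ⥤ _) :=
    ⟨fun J _ _ => inferInstance⟩
  infer_instance

/-- `0 → ℤ → ℚ → ℚ/ℤ → 0`, lifted to the universe of the coefficients. -/
noncomputable def intRatSeq : ShortComplex AddCommGrpCat.{u + 1} :=
  ShortComplex.mk
    (AddCommGrpCat.ofHom (AddEquiv.ulift.symm.toAddMonoidHom.comp ((Int.castAddHom ℚ).comp AddEquiv.ulift.toAddMonoidHom)) :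
      AddCommGrpCat.of (ULift.{u + 1} ℤ) ⟶ AddCommGrpCat.of (ULift.{u + 1} ℚ))
    (AddCommGrpCat.ofHom (AddEquiv.ulift.symm.toAddMonoidHom.comp ((QuotientAddGroup.mk' _).comp AddEquiv.ulift.toAddMonoidHom)) :
      AddCommGrpCat.of (ULift.{u + 1} ℚ) ⟶ AddCommGrpCat.of (ULift.{u + 1} (ℚ ⧸ AddSubgroup.zmultiples (1 : ℚ))))
    (by
      ext ⟨a⟩
      exact (QuotientAddGroup.eq_zero_iff _).2 ⟨a, zsmul_one a⟩)

theorem intRatSeq_shortExact : intRatSeq.{u}.ShortExact where
  exact := by
    rw [ShortComplex.ab_exact_iff]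
    rintro ⟨b⟩ hb
    obtain ⟨n, hn⟩ := (QuotientAddGroup.eq_zero_iff b).1 (congrArg ULift.down hb)
    exact ⟨⟨n⟩, ULift.ext _ _ (by show ((n : ℤ) : ℚ) = b; simpa using hn)⟩
  mono_f := (AddCommGrpCat.mono_iff_injective _).2 fun a b h => ULift.ext _ _ (Int.cast_injective (congrArg ULift.down h))
  epi_g := (AddCommGrpCat.epi_iff_surjective _).2 fun b => by
    obtain ⟨b⟩ := b
    obtain ⟨a, ha⟩ := QuotientAddGroup.mk'_surjective _ b
    exact ⟨⟨a⟩, ULift.ext _ _ ha⟩

theorem isIso_nsmul_id_const_rat (N : ℕ) (hN : 0 < N) : IsIso (N • 𝟙 (EtCoh.const X ℚ)) := by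
  haveI : (constF X).Additive := Functor.additive_of_preserves_binary_products _
  let A := AddCommGrpCat.of (ULift.{u + 1} ℚ)
  haveI : IsIso (N • 𝟙 A) := by
    refine ⟨AddCommGrpCat.ofHom (AddEquiv.ulift.symm.toAddMonoidHom.comp
      ((AddMonoidHom.mulLeft ((N : ℚ)⁻¹)).comp AddEquiv.ulift.toAddMonoidHom)), ?_, ?_⟩
    · rw [Preadditive.nsmul_comp, Category.id_comp]
      ext ⟨a⟩
      show N • ((N : ℚ)⁻¹ * a) = a
      rw [nsmul_eq_mul, mul_inv_cancel_left₀]
      exact_mod_cast hN.ne'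
    · rw [Preadditive.comp_nsmul, Category.comp_id]
      ext ⟨a⟩
      show N • ((N : ℚ)⁻¹ * a) = a
      rw [nsmul_eq_mul, mul_inv_cancel_left₀]
      exact_mod_cast hN.ne'
  have h : (constF X).map (N • 𝟙 A) = N • 𝟙 (EtCoh.const X ℚ) := by
    rw [Functor.map_nsmul, CategoryTheory.Functor.map_id]
  rw [← h]
  infer_instance

theorem nonempty_H_int_equiv_ratModInt (k : Type u) [Field k] (i : ℕ) (hi : 0 < i) :
    Nonempty (EtCoh.H (Spec (CommRingCat.of k)) (EtCoh.const (Spec (CommRingCat.of k)) ℤ) (i + 1) ≃+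
      EtCoh.H (Spec (CommRingCat.of k))
        (EtCoh.const (Spec (CommRingCat.of k)) (ℚ ⧸ AddSubgroup.zmultiples (1 : ℚ))) i) := by
  let X := Spec (CommRingCat.of k)
  haveI : (constF X).Additive := Functor.additive_of_preserves_binary_products _
  have hS := intRatSeq_shortExact.{u}.map_of_exact (constF X)
  let δ := hS.extClass.postcomp ((constantSheaf X.smallEtaleTopology AddCommGrpCat.{u + 1}).obj
    (AddCommGrpCat.of (ULift.{u + 1} ℤ))) (rfl : i + 1 = i + 1)
  have hQ : ∀ r, 0 < r → Subsingleton (EtCoh.H X (EtCoh.const X ℚ) r) := fun r hr =>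
    subsingleton_H_of_divisible _ (isIso_nsmul_id_const_rat X) hr
  refine ⟨(AddEquiv.ofBijective δ ⟨?_, ?_⟩).symm⟩
  · rw [injective_iff_map_eq_zero]
    intro x hx
    obtain ⟨y, rfl⟩ := Ext.covariant_sequence_exact₃ _ hS x rfl hx
    rw [show y = 0 from (hQ i hi).elim _ _]
    simp
  · intro x
    exact Ext.covariant_sequence_exact₁ _ hS x ((hQ (i + 1) (by omega)).elim _ _) rfl

end Groth.Agent.FieldH25
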