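import Groth.Agent.Lib.FieldH25.GaAS
import Groth.Agent.Lib.FieldH25.RatModInt
import Groth.Agent.Lib.FieldH25.Transfer
import Groth.Agent.Lib.Constr24.Descent
import Groth.Agent.Lib.EtStalk.FiniteSplit
import Groth.Agent.Lib.EtColim.Torsion

/-!
# Cohomological dimension of fields
-/

set_option autoImplicit false
set_option linter.style.haveILetI false
set_option backward.isDefEq.respectTransparency.types false

universe u

open CategoryTheory CategoryTheory.Limits AlgebraicGeometry Opposite Abelian
open Groth.Agent.EtStalk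

namespace Groth.Agent.FieldH25

theorem nsmul_id_const_zmod (X : Scheme.{u}) (p : ℕ) : p • 𝟙 (EtCoh.const X (ZMod p)) = 0 := by
  haveI : (constF X).Additive := Functor.additive_of_preserves_binary_products _
  let A := AddCommGrpCat.of (ULift.{u + 1} (ZMod p))
  have h : p • 𝟙 A = 0 := by
    ext ⟨a⟩
    show p • a = 0
    rw [nsmul_eq_mul, ZMod.natCast_self, zero_mul]
  have h1 : (constF X).map (p • 𝟙 A) = p • 𝟙 (EtCoh.const X (ZMod p)) := by
    rw [Functor.map_nsmul, CategoryTheory.Functor.map_id]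
  rw [← h1, h, Functor.map_zero]

section Charp

variable (k : Type u) [Field k] (p : ℕ) [Fact p.Prime] [CharP k p]

/-- In characteristic `p` the constant sheaf `ℤ/p` has no cohomology above degree one. -/
theorem subsingleton_H_zmod_charP {q : ℕ} (hq : 2 ≤ q) :
    Subsingleton (EtCoh.H (Spec (CommRingCat.of k)) (EtCoh.const (Spec (CommRingCat.of k)) (ZMod p)) q) := by
  let X := Spec (CommRingCat.of k)
  have h0 : (p : Γ(X, ⊤)) = 0 := by
    rw [← map_natCast (Scheme.ΓSpecIso (CommRingCat.of k)).inv.hom]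
    simp
  have hp : p.Prime := Fact.out
  let φ := W4c5etcohweilstudent.artinSchreierEndo X p hp h0
  haveI : Epi φ := epi_artinSchreier p hp h0
  let K := kernel φ
  let ev := fun W : X.Etale => sheafToPresheaf X.smallEtaleTopology AddCommGrpCat.{u + 1} ⋙
    (evaluation _ AddCommGrpCat.{u + 1}).obj (op W)
  haveI hadd : ∀ W, (ev W).Additive := fun W => { }
  have hinj : ∀ W : X.Etale, Function.Injective ((kernel.ι φ).hom.app (op W)) := fun W =>
    (mono_iff_app_injective _).1 inferInstance _
  have hlift : ∀ (W : X.Etale) (x : (EtCoh.Ga X).obj.obj (op W)), φ.hom.app (op W) x = 0 →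
      ∃ y, (kernel.ι φ).hom.app (op W) y = x := by
    intro W x hx
    have hex : (ShortComplex.mk _ _ (kernel.condition φ)).Exact :=
      ShortComplex.exact_of_f_is_kernel _ (kernelIsKernel _)
    exact (ShortComplex.ab_exact_iff _).1
      (hex.map_of_mono_of_preservesKernel (ev W) inferInstance inferInstance) x hx
  obtain ⟨T, hT⟩ := hlift (EtCoh.top X) (ULift.up (1 : Γ(X, ⊤))) (ULift.ext _ _ (by
    show (1 : Γ(X, ⊤)) ^ p - 1 = 0
    rw [one_pow, sub_self]))
  have hT0 : T ≠ 0 := fun h => by
    rw [h, map_zero] at hT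
    haveI : Nonempty (⊤ : X.Opens) := ⟨⟨IsLocalRing.closedPoint k, trivial⟩⟩
    exact zero_ne_one (α := Γ(X, ⊤)) (congrArg ULift.down hT)
  have hpT : p • T = 0 := hinj _ (by
    rw [map_nsmul, hT, map_zero]
    refine ULift.ext _ _ ?_
    show p • (1 : Γ(X, ⊤)) = 0
    rw [nsmul_eq_mul, mul_one, h0])
  obtain ⟨κ, hκ, e, he⟩ := exists_const_hom K p T hpT hT0
  haveI : Epi κ := by
    rw [← Sheaf.isLocallySurjective_iff_epi']
    refine ⟨fun {U} σ => ?_⟩
    rw [EtSite.mem_et_iff]
    intro z
    obtain ⟨L, _, _, _, _, m, hm⟩ := exists_ext_point k U z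
    obtain ⟨v, hv⟩ := hm
    haveI : CharP L p := charP_of_injective_algebraMap (algebraMap k L).injective p
    let x : L := (Scheme.ΓSpecIso (CommRingCat.of L)).hom ((kernel.ι φ).hom.app (op (ext k L)) (K.obj.map m.op σ)).down
    have hx : x ^ p = x := by
      have h1 := ConcreteCategory.congr_hom (congrArg (fun t => t.hom.app (op (ext k L))) (kernel.condition φ))
        (K.obj.map m.op σ)
      have h2 := congrArg (fun w => (Scheme.ΓSpecIso (CommRingCat.of L)).hom (ULift.down w)) h1
      change (Scheme.ΓSpecIso (CommRingCat.of L)).hom (_ ^ p - _) = (Scheme.ΓSpecIso (CommRingCat.of L)).hom 0 at h2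
      rw [map_sub, map_pow, map_zero, sub_eq_zero] at h2
      exact h2
    have hb := (Subfield.mem_bot_iff_pow_eq_self L p).2 hx
    rw [← ZMod.fieldRange_castHom_eq_bot p] at hb
    obtain ⟨c, hc⟩ := hb
    refine ⟨ext k L, m, v, ⟨(EtCoh.const X (ZMod p)).obj.map (toTop (ext k L)).op (c.val • e), hinj _ ?_⟩, hv⟩
    rw [NatTrans.naturality_apply, map_nsmul, he, NatTrans.naturality_apply, map_nsmul, hT, map_nsmul]
    refine ULift.ext _ _ ((Scheme.ΓSpecIso (CommRingCat.of L)).commRingCatIsoToRingEquiv.injective ?_)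
    show (Scheme.ΓSpecIso (CommRingCat.of L)).hom (c.val • (toTop (ext k L)).left.appTop (1 : Γ(X, ⊤))) = x
    let ψ : Γ(X, ⊤) →+* L := ((toTop (ext k L)).left.appTop ≫ (Scheme.ΓSpecIso (CommRingCat.of L)).hom).hom
    refine Eq.trans ((map_nsmul (Scheme.ΓSpecIso (CommRingCat.of L)).hom.hom _ _).trans
      (show _ = c.val • ψ 1 from rfl)) ?_
    rw [map_one, nsmul_eq_mul, mul_one, ← hc, ZMod.castHom_apply, ZMod.natCast_val]
  haveI := isIso_of_mono_of_epi κ
  let S : ShortComplex (EtCoh.Ab X) := ShortComplex.mk (κ ≫ kernel.ι φ) φ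
    (by rw [Category.assoc, kernel.condition, comp_zero])
  have hker : IsLimit (KernelFork.ofι S.f S.zero) :=
    IsLimit.ofIsoLimit (kernelIsKernel φ) (Fork.ext (asIso κ).symm (by
      show inv κ ≫ κ ≫ kernel.ι φ = _
      rw [IsIso.inv_hom_id_assoc]
      rfl))
  have hS : S.ShortExact := { exact := ShortComplex.exact_of_f_is_kernel _ hker }
  refine subsingleton_of_forall_eq 0 fun y => ?_
  obtain ⟨q, rfl⟩ : ∃ q', q = q' + 1 := ⟨q - 1, by omega⟩
  obtain ⟨z, rfl⟩ := Ext.covariant_sequence_exact₁ _ hS y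
    ((subsingleton_H_Ga k (by omega : 0 < q + 1)).elim _ _) (n₀ := q) rfl
  rw [show z = 0 from (subsingleton_H_Ga k (by omega : 0 < q)).elim _ _]
  simp

/-- Finite sheaves killed by `p` have no cohomology above degree one in characteristic `p`. -/
theorem subsingleton_H_finite_charP : ∀ (N : ℕ) (k : Type u) [Field k] [CharP k p] (Ω : Type u) [Field Ω] [Algebra k Ω]
    [IsSepClosed Ω] [IsGalois k Ω] (G : EtCoh.Ab (Spec (CommRingCat.of k)))
    [Finite ((EtCoh.stalk (sepPt k Ω)).obj G)], Nat.card ((EtCoh.stalk (sepPt k Ω)).obj G) ≤ N → p • 𝟙 G = 0 →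
    ∀ q, 2 ≤ q → Subsingleton (EtCoh.H (Spec (CommRingCat.of k)) G q) := by
  intro N
  induction N with
  | zero =>
    intro k _ _ Ω _ _ _ _ G _ hN
    exact absurd hN (Nat.not_le.2 Nat.card_pos)
  | succ N ih =>
    intro k _ _ Ω _ _ _ _ G _ hN hG q hq
    rcases subsingleton_or_nontrivial ((EtCoh.stalk (sepPt k Ω)).obj G) with h | h
    · refine subsingleton_of_forall_eq 0 fun x => ?_
      have hid : 𝟙 G = 0 := Sheaf.hom_ext (NatTrans.ext (funext fun U => AddCommGrpCat.ext fun s =>
        sect_ext Ω G (U := U.unop) _ _ fun φ => h.elim _ _))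
      rw [← Sheaf.H.map_id_apply x, hid]
      exact (congrArg (fun t => Ext.comp x t (add_zero q)) (Ext.mk₀_zero _ _)).trans (Ext.comp_zero _ _ _ _ _)
    obtain ⟨M, _, _, hM⟩ := exists_split Ω G
    let P : Sylow p (M ≃ₐ[k] M) := default
    let k' := IntermediateField.fixedField P.toSubgroup
    obtain ⟨a, ha⟩ := P.isPGroup'.exists_card_eq
    have hfin : Module.finrank k' M = p ^ a := (IntermediateField.finrank_fixedField_eq_card _).trans ha
    have hndvd : ¬ p ∣ Module.finrank k k' := by
      have h : Module.finrank k k' = P.toSubgroup.index := by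
        refine Nat.eq_of_mul_eq_mul_right (Nat.pow_pos (Fact.out : p.Prime).pos (n := a)) ?_
        rw [← hfin, Module.finrank_mul_finrank, ← IsGalois.card_aut_eq_finrank, hfin,
          ← Subgroup.index_mul_card P.toSubgroup, ha]
      rw [h]
      exact P.not_dvd_index
    haveI : IsScalarTower k' M Ω := IsScalarTower.of_algebraMap_eq fun _ => rfl
    haveI : IsScalarTower k k' Ω := IsScalarTower.of_algebraMap_eq fun _ => rfl
    haveI : IsGalois k' Ω := IsGalois.tower_top_of_isGalois k k' Ω
    haveI : IsGalois k' M := IsGalois.tower_top_of_isGalois k k' M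
    haveI : CharP k' p := charP_of_injective_algebraMap (algebraMap k k').injective p
    obtain ⟨hM', hcard⟩ := surjective_germ_baseChange Ω G M k' hM
    let g := specExt k k'
    let G' := (EtCoh.pull g).obj G
    haveI : Finite ((EtCoh.stalk (sepPt k' Ω)).obj G') := Nat.finite_of_card_ne_zero (by rw [hcard]; exact Nat.card_pos.ne')
    haveI : Nontrivial ((EtCoh.stalk (sepPt k' Ω)).obj G') := Finite.one_lt_card_iff_nontrivial.1
      (by rw [hcard]; exact Finite.one_lt_card)
    have hG' : p • 𝟙 G' = 0 := by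
      haveI : (EtCoh.pull g).Additive := inferInstance
      rw [show p • 𝟙 G' = (EtCoh.pull g).map (p • 𝟙 G) by rw [Functor.map_nsmul, CategoryTheory.Functor.map_id],
        hG, Functor.map_zero]
    obtain ⟨κ, hκ, hfinC, hlt⟩ := exists_const_mono Ω G' p hG' M hM' a hfin
    have hC : p • 𝟙 (cokernel κ) = 0 := by
      rw [← cancel_epi (cokernel.π κ), Preadditive.comp_nsmul, Category.comp_id, comp_zero]
      rw [show p • cokernel.π κ = (p • 𝟙 G') ≫ cokernel.π κ by rw [Preadditive.nsmul_comp, Category.id_comp],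
        hG', zero_comp]
    haveI := hfinC
    have h9 : Nat.card ((EtCoh.stalk (sepPt k' Ω)).obj G') = Nat.card ((EtCoh.stalk (sepPt k Ω)).obj G) := hcard
    have h2 := ih k' Ω (cokernel κ) (by omega) hC q hq
    have h3 := subsingleton_H_zmod_charP k' p hq
    let S := ShortComplex.mk κ (cokernel.π κ) (cokernel.condition _)
    have hS : S.ShortExact := { exact := ShortComplex.exact_cokernel _ }
    refine subsingleton_of_forall_eq 0 fun x => ?_
    have hx' : EtCore.Hpull g G q x = 0 := by
      obtain ⟨w, hw⟩ := Ext.covariant_sequence_exact₂ _ hS (EtCore.Hpull g G q x) (h2.elim _ _)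
      rw [← hw, show w = 0 from h3.elim _ _]
      simp
    have h4 := finrank_nsmul_eq_zero k k' G q x hx'
    have h5 : p • x = 0 := by
      rw [← H_map_nsmul_id G p q x, hG]
      have h := H_map_nsmul_id G 0 q x
      rwa [zero_nsmul, zero_nsmul] at h
    exact AddMonoid.addOrderOf_eq_one_iff.1 (Nat.eq_one_of_dvd_coprimes
      ((Nat.Prime.coprime_iff_not_dvd Fact.out).2 hndvd)
      (addOrderOf_dvd_of_nsmul_eq_zero h5) (addOrderOf_dvd_of_nsmul_eq_zero h4))

end Charp

section Pro

variable (k : Type u) [Field k] (Ω : Type u) [Field Ω] [Algebra k Ω] [IsSepClosed Ω] [IsGalois k Ω] (p : ℕ) [Fact p.Prime]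

theorem finite_stalk_coind (M : Type u) [Field M] [Algebra k M] [FiniteDimensional k M] [Algebra.IsSeparable k M]
    [AlgebraicGeometry.Etale (specExt k M)] (G : EtCoh.Ab (Spec (CommRingCat.of k))) [Finite ((EtCoh.stalk (sepPt k Ω)).obj G)] :
    Finite ((EtCoh.stalk (sepPt k Ω)).obj
      ((EtShriek.restrAlong (specExt k M) ⋙ EtCoh.push (specExt k M)).obj G)) := by
  haveI := isFinite_specExt k M
  let f := specExt k M
  let η : Spec (CommRingCat.of (AlgebraicClosure k)) ⟶ Spec (CommRingCat.of k) := specExt k (AlgebraicClosure k)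
  refine Constr24.finite_stalk_congr _ _ η (Subsingleton.elim (α := PrimeSpectrum k) _ _) ?_
  haveI : LocallyQuasiFinite f := FiniteSplit.locallyQuasiFinite_of_etale f
  haveI : Finite (fLifts f η) := FiniteSplit.finite_liftsOfFinite f η
  haveI : ∀ l : fLifts f η, Finite ((EtCoh.stalk l.1).obj ((EtShriek.restrAlong f).obj G)) := fun l => by
    haveI : Finite ((EtCoh.stalk (l.1 ≫ f)).obj G) :=
      Constr24.finite_stalk_congr G _ (sepPt k Ω) (Subsingleton.elim (α := PrimeSpectrum k) _ _) inferInstance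
    haveI : Finite ((EtCoh.stalk l.1).obj ((EtCoh.pull f).obj G)) :=
      Finite.of_surjective _ (ConcreteCategory.bijective_of_isIso (stalkPull f l.1 G)).2
    exact Finite.of_injective _
      (ConcreteCategory.bijective_of_isIso ((EtCoh.stalk l.1).map ((restrPullIso f).hom.app G))).1
  exact Finite.of_injective _ (injective_liftStalk f η ((EtShriek.restrAlong f).obj G))

/-- With only `p`-extensions, finite sheaves killed by `p` vanish in a degree where `ℤ/p` does. -/
theorem subsingleton_H_finite_pPower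
    (hpro : ∀ (K : Type u) [Field K] [Algebra k K], FiniteDimensional k K → Algebra.IsSeparable k K →
      ∃ m : ℕ, Module.finrank k K = p ^ m) (q : ℕ)
    (h0 : Subsingleton (EtCoh.H (Spec (CommRingCat.of k)) (EtCoh.const (Spec (CommRingCat.of k)) (ZMod p)) q)) :
    ∀ (N : ℕ) (G : EtCoh.Ab (Spec (CommRingCat.of k))) [Finite ((EtCoh.stalk (sepPt k Ω)).obj G)],
      Nat.card ((EtCoh.stalk (sepPt k Ω)).obj G) ≤ N → p • 𝟙 G = 0 →
        Subsingleton (EtCoh.H (Spec (CommRingCat.of k)) G q) := by
  intro N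
  induction N with
  | zero =>
    intro G _ hN
    exact absurd hN (Nat.not_le.2 Nat.card_pos)
  | succ N ih =>
    intro G _ hN hG
    rcases subsingleton_or_nontrivial ((EtCoh.stalk (sepPt k Ω)).obj G) with h | h
    · refine subsingleton_of_forall_eq 0 fun x => ?_
      have hid : 𝟙 G = 0 := Sheaf.hom_ext (NatTrans.ext (funext fun U => AddCommGrpCat.ext fun s =>
        sect_ext Ω G (U := U.unop) _ _ fun φ => h.elim _ _))
      rw [← Sheaf.H.map_id_apply x, hid]
      exact (congrArg (fun t => Ext.comp x t (add_zero q)) (Ext.mk₀_zero _ _)).trans (Ext.comp_zero _ _ _ _ _)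
    obtain ⟨M, _, _, hM⟩ := exists_split Ω G
    obtain ⟨a, ha⟩ := hpro M inferInstance inferInstance
    obtain ⟨κ, hκ, hfinC, hlt⟩ := exists_const_mono Ω G p hG M hM a ha
    have hC : p • 𝟙 (cokernel κ) = 0 := by
      rw [← cancel_epi (cokernel.π κ), Preadditive.comp_nsmul, Category.comp_id, comp_zero]
      rw [show p • cokernel.π κ = (p • 𝟙 G) ≫ cokernel.π κ by rw [Preadditive.nsmul_comp, Category.id_comp],
        hG, zero_comp]
    haveI := hfinC
    have h2 := ih (cokernel κ) (by omega) hC
    let S := ShortComplex.mk κ (cokernel.π κ) (cokernel.condition _)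
    have hS : S.ShortExact := { exact := ShortComplex.exact_cokernel _ }
    refine subsingleton_of_forall_eq 0 fun x => ?_
    obtain ⟨w, hw⟩ := Ext.covariant_sequence_exact₂ _ hS x (h2.elim _ _)
    rw [← hw, show w = 0 from h0.elim _ _]
    simp

/-- Vanishing of `ℤ/p` in one degree propagates upwards. -/
theorem subsingleton_H_finite_pPower_ge
    (hpro : ∀ (K : Type u) [Field K] [Algebra k K], FiniteDimensional k K → Algebra.IsSeparable k K →
      ∃ m : ℕ, Module.finrank k K = p ^ m) (n : ℕ)
    (h0 : Subsingleton (EtCoh.H (Spec (CommRingCat.of k)) (EtCoh.const (Spec (CommRingCat.of k)) (ZMod p)) (n + 1)))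
    (j : ℕ) : ∀ (G : EtCoh.Ab (Spec (CommRingCat.of k))) [Finite ((EtCoh.stalk (sepPt k Ω)).obj G)],
      p • 𝟙 G = 0 → Subsingleton (EtCoh.H (Spec (CommRingCat.of k)) G (n + 1 + j)) := by
  induction j with
  | zero => exact fun G _ hG => subsingleton_H_finite_pPower k Ω p hpro (n + 1) h0 _ G le_rfl hG
  | succ j ih =>
    intro G _ hG
    refine subsingleton_of_forall_eq 0 fun x => ?_
    obtain ⟨M, _, _, _, _, _, hx⟩ := exists_efface (n + 1 + j) G x
    let ι' := (restrPushAdj (specExt k M)).unit.app G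
    let R := EtShriek.restrAlong (specExt k M) ⋙ EtCoh.push (specExt k M)
    haveI := finite_stalk_coind k Ω M G
    haveI : Mono ι' := by
      rw [mono_iff_app_injective]
      rintro ⟨W⟩ s t hst
      have h1 : G.obj.map ((compBcAdj (specExt k M)).counit.app W).op s =
          G.obj.map ((compBcAdj (specExt k M)).counit.app W).op t := hst
      refine eq_of_agree G fun z => ⟨_, (compBcAdj (specExt k M)).counit.app W, ?_, h1⟩
      obtain ⟨w, hw, -⟩ := Scheme.Pullback.exists_preimage_pullback (f := W.hom) (g := specExt k M) z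
        (IsLocalRing.closedPoint M) (Subsingleton.elim (α := PrimeSpectrum k) _ _)
      exact ⟨w, hw⟩
    let S : ShortComplex (EtCoh.Ab (Spec (CommRingCat.of k))) := ShortComplex.mk ι' (cokernel.π ι') (cokernel.condition _)
    have hS : S.ShortExact := { exact := ShortComplex.exact_cokernel _ }
    haveI : Finite ((EtCoh.stalk (sepPt k Ω)).obj (cokernel ι')) :=
      Finite.of_surjective _ ((EtStalk.epi_iff_stalk (cokernel.π ι')).1 inferInstance Ω (sepPt k Ω))
    haveI : R.Additive := by
      haveI : (EtCoh.push (specExt k M)).IsRightAdjoint := (EtCoh.pullPushAdj _).isRightAdjoint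
      haveI : (EtShriek.restrAlong (specExt k M)).IsRightAdjoint := (EtShriek.extZeroAdj _).isRightAdjoint
      haveI : PreservesFiniteProducts R := inferInstance
      exact Functor.additive_of_preserves_binary_products R
    have hC : p • 𝟙 (cokernel ι') = 0 := by
      rw [← cancel_epi (cokernel.π ι'), Preadditive.comp_nsmul, Category.comp_id, comp_zero]
      rw [show p • cokernel.π ι' = (p • 𝟙 (R.obj G)) ≫ cokernel.π ι' by rw [Preadditive.nsmul_comp, Category.id_comp],
        show p • 𝟙 (R.obj G) = R.map (p • 𝟙 G) by rw [Functor.map_nsmul, CategoryTheory.Functor.map_id],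
        hG, Functor.map_zero, zero_comp]
    obtain ⟨z, hz⟩ := Ext.covariant_sequence_exact₁ _ hS x hx (n₀ := n + 1 + j) rfl
    rw [← hz, show z = 0 from (ih (cokernel ι') hC).elim _ _]
    simp

end Pro

/-- Reduction of the primary torsion of torsion sheaves to finite sheaves killed by `p`. -/
theorem primary_vanishes_of_finite (k : Type u) [Field k] (p : ℕ) [Fact p.Prime] (q : ℕ)
    (h : ∀ (G : EtCoh.Ab (Spec (CommRingCat.of k))) [Finite ((EtCoh.stalk (sepPt k (SeparableClosure k))).obj G)],
      p • 𝟙 G = 0 → Subsingleton (EtCoh.H (Spec (CommRingCat.of k)) G q))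
    (F : EtCoh.Ab (Spec (CommRingCat.of k))) (hF : EtCoh.IsTorsion F)
    (x : EtCoh.H (Spec (CommRingCat.of k)) F q) (hx : ∃ m : ℕ, p ^ m • x = 0) : x = 0 := by
  let X := Spec (CommRingCat.of k)
  have hpow : ∀ (a : ℕ) (G : EtCoh.Ab X) [Finite ((EtCoh.stalk (sepPt k (SeparableClosure k))).obj G)],
      p ^ a • 𝟙 G = 0 → Subsingleton (EtCoh.H X G q) := by
    intro a
    induction a with
    | zero =>
      intro G _ hG
      exact h G (by rw [pow_zero, one_nsmul] at hG; rw [hG, nsmul_zero])
    | succ a iha =>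
      intro G _ hG
      let f : G ⟶ G := p • 𝟙 G
      let S : ShortComplex (EtCoh.Ab X) := ShortComplex.mk (kernel.ι f) (cokernel.π (kernel.ι f)) (cokernel.condition _)
      have hS : S.ShortExact := { exact := ShortComplex.exact_cokernel _ }
      haveI : Finite ((EtCoh.stalk (sepPt k (SeparableClosure k))).obj (kernel f)) :=
        Finite.of_injective _ ((EtStalk.mono_iff_stalk (kernel.ι f)).1 inferInstance _ (sepPt k (SeparableClosure k)))
      haveI : Finite ((EtCoh.stalk (sepPt k (SeparableClosure k))).obj (cokernel (kernel.ι f))) :=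
        Finite.of_surjective _ ((EtStalk.epi_iff_stalk (cokernel.π (kernel.ι f))).1 inferInstance _ (sepPt k (SeparableClosure k)))
      have h1 := h (kernel f) (by
        rw [← cancel_mono (kernel.ι f), Preadditive.nsmul_comp, Category.id_comp, zero_comp]
        calc p • kernel.ι f = kernel.ι f ≫ f := by simp only [f, Preadditive.comp_nsmul, Category.comp_id]
          _ = 0 := kernel.condition f)
      haveI : Mono (cokernel.desc (kernel.ι f) f (kernel.condition f)) := by
        show Mono (Abelian.factorThruCoimage f)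
        infer_instance
      have h2 := iha (cokernel (kernel.ι f)) (by
        rw [← cancel_mono (cokernel.desc (kernel.ι f) f (kernel.condition f)), ← cancel_epi (cokernel.π (kernel.ι f))]
        simp only [Preadditive.nsmul_comp, Category.id_comp, zero_comp, comp_zero, Preadditive.comp_nsmul,
          cokernel.π_desc]
        rw [show p ^ a • f = (p ^ a * p) • 𝟙 G by rw [mul_nsmul', ], ← pow_succ, hG])
      refine subsingleton_of_forall_eq 0 fun z => ?_
      obtain ⟨w, hw⟩ := Ext.covariant_sequence_exact₂ _ hS z (h2.elim _ _)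
      rw [← hw, show w = 0 from h1.elim _ _]
      simp
  obtain ⟨m, hm⟩ := hx
  obtain ⟨J, _, _, D, c, hc, hD, ⟨eF⟩⟩ := Constr24.exists_colimit_constructible hF
  let e : colimit D ≅ F := (colimit.isColimit D).coconePointUniqueUpToIso hc ≪≫ eF
  obtain ⟨j, y, hy⟩ := (EtColim.surj_inj X q D).1 (x.comp (Ext.mk₀ e.inv) (add_zero q))
  have hy0 : (p ^ m • y).comp (Ext.mk₀ (colimit.ι D j)) (add_zero q) = 0 := by
    show (Ext.mk₀ (colimit.ι D j)).postcomp _ (add_zero q) (p ^ m • y) = 0
    rw [map_nsmul]
    show p ^ m • (y.comp (Ext.mk₀ (colimit.ι D j)) (add_zero q)) = 0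
    rw [hy]
    show p ^ m • (Ext.mk₀ e.inv).postcomp _ (add_zero q) x = 0
    rw [← map_nsmul, hm, map_zero]
  obtain ⟨j', g, hg⟩ := (EtColim.surj_inj X q D).2 j _ hy0
  let P := D.obj j'
  let y' : EtCoh.H X P q := y.comp (Ext.mk₀ (D.map g)) (add_zero q)
  have hy' : p ^ m • y' = 0 := (map_nsmul ((Ext.mk₀ (D.map g)).postcomp _ (add_zero q)) _ y).symm.trans hg
  haveI : Finite ((EtCoh.stalk (sepPt k (SeparableClosure k))).obj P) := Constr24.finite_stalk (hD j') _
  let N := Nat.card ((EtCoh.stalk (sepPt k (SeparableClosure k))).obj P)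
  have hN : 0 < N := Nat.card_pos
  have hP : N • 𝟙 P = 0 := Sheaf.hom_ext (NatTrans.ext (funext fun U => AddCommGrpCat.ext fun s =>
    sect_ext (SeparableClosure k) P (U := U.unop) _ _ fun φ => by
      rw [← germ_nat, ← ConcreteCategory.comp_apply]
      refine Eq.trans ?_ (map_zero _).symm
      have h1 : germ (sepPt k (SeparableClosure k)) P φ s ∈ (⊤ : AddSubgroup _) := trivial
      have h2 : ∀ r : ℕ, (EtCoh.stalk (sepPt k (SeparableClosure k))).map (r • 𝟙 P)
          (germ (sepPt k (SeparableClosure k)) P φ s) = r • germ (sepPt k (SeparableClosure k)) P φ s := by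
        intro r
        rw [germ_nat]
        refine Eq.trans (congrArg _ ?_) (map_nsmul _ _ _)
        induction r with
        | zero => rw [zero_nsmul, zero_nsmul]; rfl
        | succ r ih => rw [succ_nsmul, succ_nsmul]; exact congrArg (· + s) ih
      exact (h2 N).trans card_nsmul_eq_zero'))
  obtain ⟨a, N', hN', hNa⟩ := Nat.exists_eq_pow_mul_and_not_dvd hN.ne' p (Fact.out : p.Prime).ne_one
  have hco : Nat.Coprime (p ^ max a m) N' :=
    Nat.Coprime.pow_left _ ((Nat.Prime.coprime_iff_not_dvd Fact.out).2 hN')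
  obtain ⟨u, hu1, hu2⟩ := Nat.chineseRemainder hco 1 0
  have hu' : u • y' = y' := by
    have hd : addOrderOf y' ∣ p ^ max a m :=
      (addOrderOf_dvd_of_nsmul_eq_zero hy').trans (pow_dvd_pow p (le_max_right a m))
    rw [nsmul_eq_nsmul_iff_modEq.2 (Nat.ModEq.of_dvd hd hu1) |>.trans (one_nsmul y')]
  obtain ⟨v, rfl⟩ : N' ∣ u := (Nat.modEq_zero_iff_dvd).1 hu2
  let f : P ⟶ P := p ^ a • 𝟙 P
  let ψ : P ⟶ kernel f := kernel.lift f ((N' * v) • 𝟙 P) (by
    simp only [f, Preadditive.nsmul_comp, Category.id_comp]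
    rw [← mul_nsmul', show N' * v * p ^ a = v * N by rw [hNa]; ring, mul_nsmul', hP, nsmul_zero])
  haveI : Finite ((EtCoh.stalk (sepPt k (SeparableClosure k))).obj (kernel f)) :=
    Finite.of_injective _ ((EtStalk.mono_iff_stalk (kernel.ι f)).1 inferInstance _ (sepPt k (SeparableClosure k)))
  have hker := hpow a (kernel f) (by
    rw [← cancel_mono (kernel.ι f), Preadditive.nsmul_comp, Category.id_comp, zero_comp]
    calc p ^ a • kernel.ι f = kernel.ι f ≫ f := by simp only [f, Preadditive.comp_nsmul, Category.comp_id]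
      _ = 0 := kernel.condition f)
  have hy'0 : y' = 0 := by
    rw [← hu', ← H_map_nsmul_id P (N' * v) q y', ← kernel.lift_ι f ((N' * v) • 𝟙 P) _]
    refine (Sheaf.H.map_comp_apply ψ (kernel.ι f) y').trans ?_
    rw [show Sheaf.H.map ψ q y' = 0 from hker.elim _ _, map_zero]
  have hx' : x.comp (Ext.mk₀ e.inv) (add_zero q) = 0 := by
    rw [← hy, ← colimit.w D g, ← Ext.mk₀_comp_mk₀, ← Ext.comp_assoc_of_second_deg_zero]
    show y'.comp _ _ = 0
    rw [hy'0, Ext.zero_comp]
  exact eq_zero_of_comp_iso x e.symm hx'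

end Groth.Agent.FieldH25
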