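import Groth.Agent.Lib.EtStalk.Agree
import Groth.Agent.Lib.EtField24.Coprod
import Mathlib.FieldTheory.Galois.Basic
import Mathlib.FieldTheory.Normal.Closure
import Mathlib.FieldTheory.IsSepClosed
import Mathlib.CategoryTheory.Sites.EpiMono

/-!
# Lifting a multiple of a global section along an epimorphism of étale sheaves on a field
-/

set_option autoImplicit false
set_option linter.style.haveILetI false
set_option backward.isDefEq.respectTransparency.types false

universe u

open CategoryTheory CategoryTheory.Limits AlgebraicGeometry Opposite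

namespace Groth.Agent.FieldH25

variable (k : Type u) [Field k]

theorem etale_spec (L : Type u) [Field L] [Algebra k L] [FiniteDimensional k L] [Algebra.IsSeparable k L] :
    Etale (Spec.map (CommRingCat.ofHom (algebraMap k L))) := by
  haveI : Algebra.FormallyEtale k L := Algebra.FormallyEtale.of_isSeparable k L
  haveI : Algebra.FinitePresentation k L := Algebra.FinitePresentation.of_finiteType.1 inferInstance
  haveI : Algebra.Etale k L := ⟨inferInstance, inferInstance⟩
  rw [HasRingHomProperty.Spec_iff (P := @Etale)]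
  exact RingHom.etale_algebraMap.2 inferInstance

/-- The étale `k`-scheme of a finite separable extension. -/
noncomputable def ext (L : Type u) [Field L] [Algebra k L] [FiniteDimensional k L] [Algebra.IsSeparable k L] :
    (Spec (CommRingCat.of k)).Etale :=
  haveI := etale_spec k L
  Scheme.Etale.mk (Spec.map (CommRingCat.ofHom (algebraMap k L)))

/-- Morphisms between the étale schemes of extensions. -/
noncomputable def extMap {L L' : Type u} [Field L] [Algebra k L] [FiniteDimensional k L] [Algebra.IsSeparable k L]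
    [Field L'] [Algebra k L'] [FiniteDimensional k L'] [Algebra.IsSeparable k L'] (a : L →ₐ[k] L') :
    ext k L' ⟶ ext k L :=
  MorphismProperty.Over.homMk (Spec.map (CommRingCat.ofHom a.toRingHom)) (by
    show Spec.map _ ≫ Spec.map _ = Spec.map _
    rw [← Spec.map_comp]
    exact congrArg Spec.map (CommRingCat.hom_ext (RingHom.ext a.commutes)))

theorem extMap_comp {L L' L'' : Type u} [Field L] [Algebra k L] [FiniteDimensional k L] [Algebra.IsSeparable k L]
    [Field L'] [Algebra k L'] [FiniteDimensional k L'] [Algebra.IsSeparable k L']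
    [Field L''] [Algebra k L''] [FiniteDimensional k L''] [Algebra.IsSeparable k L'']
    (a : L →ₐ[k] L') (b : L' →ₐ[k] L'') : extMap k b ≫ extMap k a = extMap k (b.comp a) := by
  refine MorphismProperty.Over.Hom.ext ?_
  show Spec.map _ ≫ Spec.map _ = Spec.map _
  rw [← Spec.map_comp]
  rfl

theorem exists_extMap_eq {L L' : Type u} [Field L] [Algebra k L] [FiniteDimensional k L] [Algebra.IsSeparable k L]
    [Field L'] [Algebra k L'] [FiniteDimensional k L'] [Algebra.IsSeparable k L'] (m : ext k L' ⟶ ext k L) :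
    ∃ a : L →ₐ[k] L', extMap k a = m := by
  let φ := Spec.preimage (show Spec (CommRingCat.of L') ⟶ Spec (CommRingCat.of L) from m.left)
  have hm : m.left = Spec.map φ := (Spec.map_preimage _).symm
  have hw : CommRingCat.ofHom (algebraMap k L) ≫ φ = CommRingCat.ofHom (algebraMap k L') := Spec.map_injective (by
    rw [Spec.map_comp]
    exact (congrArg (· ≫ _) hm.symm).trans (MorphismProperty.Over.w m))
  refine ⟨{ φ.hom with commutes' := fun r => congr($hw r) }, ?_⟩
  refine MorphismProperty.Over.Hom.ext ?_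
  exact hm.symm

/-- Every point of an étale `k`-scheme is hit by the spectrum of a finite separable extension. -/
theorem exists_ext_point (V : (Spec (CommRingCat.of k)).Etale) (v : V.left) :
    ∃ (L : Type u) (_ : Field L) (_ : Algebra k L) (_ : FiniteDimensional k L) (_ : Algebra.IsSeparable k L)
      (m : ext k L ⟶ V), v ∈ Set.range m.left := by
  haveI : Etale V.hom := V.prop
  obtain ⟨ι, K, _, _, _, _, e, he⟩ := EtField24.exists_coprod_of_etale (k := k) V.hom
  obtain ⟨⟨i, z⟩, hz⟩ := (sigmaMk (fun i => Spec (CommRingCat.of (K i)))).surjective (e.inv v)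
  rw [sigmaMk_mk] at hz
  refine ⟨K i, inferInstance, inferInstance, inferInstance, inferInstance,
    MorphismProperty.Over.homMk (Sigma.ι (fun i => Spec (CommRingCat.of (K i))) i ≫ e.hom)
      ((Category.assoc _ _ _).trans (he i)), z, ?_⟩
  show e.hom (Sigma.ι (fun i => Spec (CommRingCat.of (K i))) i z) = v
  rw [hz, ← Scheme.Hom.comp_apply, e.inv_hom_id]
  rfl

/-- Two embeddings of a finite Galois extension differ by an automorphism. -/
theorem exists_comp_eq (M L : Type u) [Field M] [Algebra k M] [FiniteDimensional k M] [IsGalois k M]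
    [Field L] [Algebra k L] (a b : M →ₐ[k] L) : ∃ γ : M ≃ₐ[k] M, a.comp γ.toAlgHom = b := by
  let E : IntermediateField k L := a.fieldRange
  let i : M ≃ₐ[k] E := AlgEquiv.ofInjectiveField a
  haveI : Normal k E := Normal.of_algEquiv i
  let b' : E →ₐ[k] L := b.comp i.symm.toAlgHom
  have hb : b'.fieldRange = E := AlgHom.fieldRange_of_normal b'
  have hmem : ∀ x, b x ∈ E := fun x => hb ▸ ⟨i x, show b (i.symm (i x)) = b x by rw [AlgEquiv.symm_apply_apply]⟩
  let c : M →ₐ[k] M := i.symm.toAlgHom.comp (b.codRestrict E.toSubalgebra hmem)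
  refine ⟨AlgEquiv.ofBijective c (AlgHom.normal_bijective k M M c), AlgHom.ext fun x => ?_⟩
  exact congrArg Subtype.val (i.apply_symm_apply ⟨b x, hmem x⟩)

variable {k}

theorem w_top {W : (Spec (CommRingCat.of k)).Etale} (p q : W ⟶ EtCoh.top (Spec (CommRingCat.of k))) : p = q := by
  refine MorphismProperty.Over.Hom.ext ?_
  have hp : p.left ≫ 𝟙 _ = W.hom := MorphismProperty.Over.w p
  have hq : q.left ≫ 𝟙 _ = W.hom := MorphismProperty.Over.w q
  exact (Category.comp_id _).symm.trans (hp.trans (hq.symm.trans (Category.comp_id _)))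

/-- The structure map to the final object. -/
noncomputable def toTop (W : (Spec (CommRingCat.of k)).Etale) : W ⟶ EtCoh.top (Spec (CommRingCat.of k)) :=
  MorphismProperty.Over.homMk W.hom (Category.comp_id _)

/-- A nonzero multiple of any global section lifts along an epimorphism. -/
theorem exists_nsmul_lift {I Q : EtCoh.Ab (Spec (CommRingCat.of k))} (g : I ⟶ Q) [Epi g]
    (s : Q.obj.obj (op (EtCoh.top (Spec (CommRingCat.of k))))) :
    ∃ (N : ℕ) (_ : 0 < N) (t : I.obj.obj (op (EtCoh.top (Spec (CommRingCat.of k))))),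
      g.hom.app _ t = N • s := by
  haveI hls : Sheaf.IsLocallySurjective g := (Sheaf.isLocallySurjective_iff_epi' _ g).2 inferInstance
  have hS := Presheaf.imageSieve_mem (Spec (CommRingCat.of k)).smallEtaleTopology g.hom s
  have e : (Spec (CommRingCat.of k)).smallEtaleTopology =
      ((Spec (CommRingCat.of k)).smallPretopology (P := EtCoh.etaleMP) (Q := EtCoh.etaleMP)).toGrothendieck :=
    Scheme.smallGrothendieckTopology_eq_toGrothendieck_smallPretopology _ le_rfl
  replace hS := (Scheme.mem_toGrothendieck_smallPretopology _ _).1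
    ((congrArg (fun J : GrothendieckTopology (Spec (CommRingCat.of k)).Etale =>
      Presheaf.imageSieve g.hom s ∈ J (EtCoh.top (Spec (CommRingCat.of k)))) e).mp hS)
  obtain ⟨V, h, v, ⟨t, ht⟩, -, -⟩ := hS (IsLocalRing.closedPoint k)
  obtain ⟨L, _, _, _, _, m, -⟩ := exists_ext_point k V v
  let Ω := SeparableClosure k
  letI : Algebra L Ω := (IsSepClosed.lift : L →ₐ[k] Ω).toRingHom.toAlgebra
  haveI : IsScalarTower k L Ω := IsScalarTower.of_algebraMap_eq fun x => ((IsSepClosed.lift : L →ₐ[k] Ω).commutes x).symm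
  let M := IntermediateField.normalClosure k L Ω
  haveI : IsGalois k M := IsGalois.normalClosure k L Ω
  haveI : FiniteDimensional k M := normalClosure.is_finiteDimensional k L Ω
  haveI : Algebra.IsSeparable k M := IsGalois.to_isSeparable
  let a₀ : L →ₐ[k] M := (IsScalarTower.toAlgHom k L Ω).codRestrict M.toSubalgebra
    fun x => ((IsScalarTower.toAlgHom k L Ω).fieldRange_le_normalClosure) ⟨x, rfl⟩
  let W := ext k M
  let p := toTop W
  let tW : I.obj.obj (op W) := I.obj.map (extMap k a₀ ≫ m).op t
  have htW : g.hom.app _ tW = Q.obj.map p.op s := by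
    have h1 := ConcreteCategory.congr_hom (g.hom.naturality (extMap k a₀ ≫ m).op) t
    simp only [ConcreteCategory.comp_apply] at h1
    rw [h1, ht, ← ConcreteCategory.comp_apply, ← Functor.map_comp, ← op_comp, w_top ((extMap k a₀ ≫ m) ≫ h) p]
  let act : (M ≃ₐ[k] M) → (W ⟶ W) := fun γ => extMap k γ.toAlgHom
  haveI : Fintype (M ≃ₐ[k] M) := Fintype.ofFinite _
  let T₀ : I.obj.obj (op W) := ∑ γ : M ≃ₐ[k] M, I.obj.map (act γ).op tW
  have hT₀ : g.hom.app _ T₀ = Fintype.card (M ≃ₐ[k] M) • Q.obj.map p.op s := by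
    rw [map_sum, ← Finset.card_univ, ← Finset.sum_const]
    refine Finset.sum_congr rfl fun γ _ => ?_
    have h1 := ConcreteCategory.congr_hom (g.hom.naturality (act γ).op) tW
    simp only [ConcreteCategory.comp_apply] at h1
    rw [h1, htW, ← ConcreteCategory.comp_apply, ← Functor.map_comp, ← op_comp, w_top (act γ ≫ p) p]
  have hinv : ∀ γ₀ : M ≃ₐ[k] M, I.obj.map (act γ₀).op T₀ = T₀ := fun γ₀ => by
    rw [map_sum]
    refine Fintype.sum_equiv (Equiv.mulLeft γ₀) _ _ fun γ => ?_
    rw [← ConcreteCategory.comp_apply, ← Functor.map_comp, ← op_comp, extMap_comp]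
    rfl
  have hcomp : ∀ ⦃Z : (Spec (CommRingCat.of k)).Etale⦄ (a b : Z ⟶ W), I.obj.map a.op T₀ = I.obj.map b.op T₀ := by
    intro Z a b
    refine EtStalk.eq_of_agree I fun z => ?_
    obtain ⟨L', _, _, _, _, m', hm'⟩ := exists_ext_point k Z z
    obtain ⟨a', ha'⟩ := exists_extMap_eq k (m' ≫ a)
    obtain ⟨b', hb'⟩ := exists_extMap_eq k (m' ≫ b)
    obtain ⟨γ, hγ⟩ := exists_comp_eq k M L' a' b'
    refine ⟨ext k L', m', hm', ?_⟩
    rw [← ConcreteCategory.comp_apply, ← Functor.map_comp, ← op_comp, ← ha', ← ConcreteCategory.comp_apply,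
      ← Functor.map_comp, ← op_comp, ← hb', ← hγ, ← extMap_comp, op_comp, Functor.map_comp, ConcreteCategory.comp_apply]
    congr 1
    exact (hinv γ).symm
  have hcov : Sieve.generate (Presieve.singleton p) ∈
      (Spec (CommRingCat.of k)).smallEtaleTopology (EtCoh.top (Spec (CommRingCat.of k))) := by
    rw [e]
    refine (Scheme.mem_toGrothendieck_smallPretopology _ _).2 fun x => ?_
    refine ⟨W, p, IsLocalRing.closedPoint M, Sieve.le_generate _ _ _ ⟨⟩, W.prop, ?_⟩
    exact Subsingleton.elim (α := PrimeSpectrum k) _ _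
  have hsheaf : Presieve.IsSheafFor (I.obj ⋙ CategoryTheory.forget _) (Presieve.singleton p) := by
    rw [Presieve.isSheafFor_iff_generate]
    exact (isSheaf_iff_isSheaf_of_type _ _).1 ((Presheaf.isSheaf_iff_isSheaf_forget _ _ (CategoryTheory.forget _)).1 I.property) _ hcov
  obtain ⟨T, hT, -⟩ := Presieve.isSheafFor_singleton.1 hsheaf T₀ fun a b _ => hcomp a b
  refine ⟨Fintype.card (M ≃ₐ[k] M), Fintype.card_pos, T, ?_⟩
  have hsep : ∀ x y : Q.obj.obj (op (EtCoh.top (Spec (CommRingCat.of k)))), Q.obj.map p.op x = Q.obj.map p.op y → x = y :=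
    fun x y hxy => EtStalk.eq_of_agree Q fun z => ⟨W, p, ⟨IsLocalRing.closedPoint M, Subsingleton.elim (α := PrimeSpectrum k) _ _⟩, hxy⟩
  refine hsep _ _ ?_
  have h1 := ConcreteCategory.congr_hom (g.hom.naturality p.op) T
  simp only [ConcreteCategory.comp_apply] at h1
  rw [← h1, map_nsmul, ← hT₀]
  exact congrArg _ hT

end Groth.Agent.FieldH25
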