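import Groth.Agent.Lib.FieldH25.Transfer
import Groth.Agent.Lib.FieldH25.Sections
import Mathlib.FieldTheory.Galois.Basic
import Mathlib.GroupTheory.Sylow
import Mathlib.RingTheory.Spectrum.Prime.FreeLocus

/-!
# Period and index of Galois cohomology classes
-/

set_option autoImplicit false
set_option linter.style.haveILetI false
set_option backward.isDefEq.respectTransparency.types false

universe u

open CategoryTheory CategoryTheory.Limits AlgebraicGeometry Opposite Abelian

namespace Groth.Agent.FieldH25

/-- The morphism of spectra of a field extension. -/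
noncomputable abbrev specExt (K L : Type u) [Field K] [Field L] [Algebra K L] :
    Spec (CommRingCat.of L) ⟶ Spec (CommRingCat.of K) :=
  Spec.map (CommRingCat.ofHom (algebraMap K L))

theorem specExt_comp (K M L : Type u) [Field K] [Field M] [Field L] [Algebra K M] [Algebra M L] [Algebra K L]
    [IsScalarTower K M L] : specExt M L ≫ specExt K M = specExt K L := by
  rw [specExt, specExt, ← Spec.map_comp, ← CommRingCat.ofHom_comp, ← IsScalarTower.algebraMap_eq]

variable (K L : Type u) [Field K] [Field L] [Algebra K L]

theorem isIntegralHom_specExt [Algebra.IsIntegral K L] : IsIntegralHom (specExt K L) :=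
  IsIntegralHom.SpecMap_iff.2 (algebraMap_isIntegral_iff.2 inferInstance)

variable [FiniteDimensional K L] [Algebra.IsSeparable K L]

theorem isFinite_specExt : IsFinite (specExt K L) :=
  (IsFinite.SpecMap_iff _).2 (RingHom.finite_algebraMap.2 inferInstance)

theorem finrank_specExt (y : Spec (CommRingCat.of K)) : (specExt K L).finrank y = Module.finrank K L := by
  refine (Scheme.Hom.finrank_SpecMap_algebraMap K L y).trans ?_
  rw [Module.rankAtStalk_eq_finrank_of_free]
  rfl

theorem finrank_nsmul_eq_zero (F : EtCoh.Ab (Spec (CommRingCat.of K))) (i : ℕ)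
    (α : EtCoh.H (Spec (CommRingCat.of K)) F i) (hα : EtCore.Hpull (specExt K L) F i α = 0) :
    Module.finrank K L • α = 0 := by
  haveI := isFinite_specExt K L
  haveI := etale_spec K L
  exact nsmul_eq_zero_of_Hpull_eq_zero (specExt K L) _ (finrank_specExt K L) F i α hα

/-- A class killed by some separable extension is killed by one of degree prime to any prime not
dividing the order of the class. -/
theorem exists_ext_not_dvd (F : EtCoh.Ab (Spec (CommRingCat.of K))) (i : ℕ)
    (α : EtCoh.H (Spec (CommRingCat.of K)) F i) (hα : EtCore.Hpull (specExt K L) F i α = 0)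
    (p : ℕ) (hp : p.Prime) (hpα : ¬ p ∣ addOrderOf α) :
    ∃ (L' : Type u) (_ : Field L') (_ : Algebra K L') (_ : FiniteDimensional K L') (_ : Algebra.IsSeparable K L'),
      ¬ p ∣ Module.finrank K L' ∧ EtCore.Hpull (specExt K L') F i α = 0 := by
  haveI := Fact.mk hp
  let E := IntermediateField.normalClosure K L (SeparableClosure L)
  haveI : Algebra.IsSeparable K (SeparableClosure L) := Algebra.IsSeparable.trans K L (SeparableClosure L)
  haveI : IsSepClosure K (SeparableClosure L) := ⟨IsSepClosure.sep_closed L, inferInstance⟩
  haveI : IsGalois K (SeparableClosure L) := inferInstance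
  let φ : L →ₐ[K] SeparableClosure L := IsScalarTower.toAlgHom K L (SeparableClosure L)
  let j : L →ₐ[K] E := φ.codRestrict E.toSubalgebra fun x => φ.fieldRange_le_normalClosure ⟨x, rfl⟩
  letI : Algebra L E := j.toRingHom.toAlgebra
  haveI : IsScalarTower K L E := IsScalarTower.of_algebraMap_eq fun x => (j.commutes x).symm
  haveI : FiniteDimensional L E := FiniteDimensional.right K L E
  haveI : Algebra.IsSeparable L E := Algebra.isSeparable_tower_top_of_isSeparable K L E
  let P : Sylow p (E ≃ₐ[K] E) := default
  let L' := IntermediateField.fixedField P.toSubgroup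
  obtain ⟨a, ha⟩ := P.isPGroup'.exists_card_eq
  have hfin : Module.finrank L' E = p ^ a := (IntermediateField.finrank_fixedField_eq_card _).trans ha
  have hdeg : Module.finrank K L' * p ^ a = Nat.card (E ≃ₐ[K] E) := by
    rw [← hfin, Module.finrank_mul_finrank, IsGalois.card_aut_eq_finrank]
  have hndvd : ¬ p ∣ Module.finrank K L' := by
    have h : Module.finrank K L' = P.toSubgroup.index := by
      refine Nat.eq_of_mul_eq_mul_right (Nat.pow_pos hp.pos (n := a)) ?_
      rw [hdeg, ← Subgroup.index_mul_card P.toSubgroup, ha]
    rw [h]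
    exact P.not_dvd_index
  refine ⟨L', inferInstance, inferInstance, inferInstance, inferInstance, hndvd, ?_⟩
  haveI : Algebra.IsSeparable L' E := Algebra.isSeparable_tower_top_of_isSeparable K L' E
  have h1 := Hpull_Hpull_eq_zero_iff (specExt L E) (specExt K L) (specExt L' E) (specExt K L')
    (by rw [specExt_comp, specExt_comp]) F i α hα
  have h2 := finrank_nsmul_eq_zero L' E _ i _ h1
  rw [hfin] at h2
  have h3 : addOrderOf α • EtCore.Hpull (specExt K L') F i α = 0 := by
    rw [← map_nsmul, addOrderOf_nsmul_eq_zero, map_zero]
  exact AddMonoid.addOrderOf_eq_one_iff.1 (Nat.eq_one_of_dvd_coprimes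
    (Nat.Coprime.pow_left a ((Nat.Prime.coprime_iff_not_dvd hp).2 hpα))
    (addOrderOf_dvd_of_nsmul_eq_zero h2) (addOrderOf_dvd_of_nsmul_eq_zero h3))

end Groth.Agent.FieldH25
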