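import Groth.Agent.Lib.FieldH25.RatModInt
import Groth.Agent.Lib.FieldH25.Transfer
import Groth.Agent.Lib.NormSep24.ConstUnit
import Groth.Agent.Lib.EtColim.Torsion
import Groth.Agent.Lib.VB17.Setup
import Groth.Agent.Lib.EtStalk.FiniteSplit

/-!
# Rational étale cohomology of normal schemes vanishes
-/

set_option autoImplicit false
set_option linter.style.haveILetI false
set_option backward.isDefEq.respectTransparency false
set_option backward.isDefEq.respectTransparency.types false

universe u

open CategoryTheory CategoryTheory.Limits AlgebraicGeometry Opposite Abelian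

namespace Groth.Agent.FieldH25

theorem isFinite_of_etale_spec {K : Type u} [Field K] {T : Scheme.{u}} (c : T ⟶ Spec (CommRingCat.of K))
    [AlgebraicGeometry.Etale c] [CompactSpace T] : IsFinite c := by
  haveI : LocallyQuasiFinite c := FiniteSplit.locallyQuasiFinite_of_etale c
  haveI : QuasiCompact c := (quasiCompact_iff_compactSpace _).2 ‹_›
  exact IsFinite.of_locallyQuasiFinite c

open EtColim in
theorem isAddTorsion_rpushPsh_field {K : Type u} [Field K] {Y : Scheme.{u}} (f : Spec (CommRingCat.of K) ⟶ Y)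
    [QuasiCompact f] (F : EtCoh.Ab (Spec (CommRingCat.of K))) (n : ℕ) (hn : 0 < n) (V : Y.Etale)
    [IsAffine V.left] : IsAddTorsion (((((pushPsh f).rightDerived n).obj F).obj (op V)) : Type (u + 1)) := by
  let W := (EtCoh.bc f).obj V
  haveI : AlgebraicGeometry.Etale W.hom := W.prop
  haveI : CompactSpace ((𝟭 Scheme).obj V.left) := inferInstanceAs (CompactSpace V.left)
  haveI : QuasiCompact (pullback.fst V.hom f) := inferInstance
  haveI : CompactSpace W.left :=
    QuasiCompact.compactSpace_of_compactSpace (pullback.fst V.hom f : W.left ⟶ V.left)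
  haveI : IsFinite W.hom :=
    @isFinite_of_etale_spec K _ W.left W.hom W.prop ‹CompactSpace W.left›
  haveI : ((evaluation Y.Etaleᵒᵖ AddCommGrpCat.{u + 1}).obj (op V)).Additive := { }
  haveI : (pushPsh f).Additive := { }
  let e := (RDComp.rightDerivedPostIso (pushPsh f) ((evaluation Y.Etaleᵒᵖ AddCommGrpCat.{u + 1}).obj (op V)) n).symm ≪≫
    (ExtDerived.rightDerivedMapIso n (zExtSectIso W)).symm ≪≫
      ExtDerived.rightDerivedCoyonedaNatIso (EtStalk.zExt W.hom) n
  let e' := (e.app F).addCommGroupIsoToAddEquiv.trans (EtStalk.extCohEquiv W.hom F n)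
  intro x
  obtain ⟨y, hy⟩ := (bijective_HofPush_integral W.hom _ n).2 (e' x)
  have h : IsOfFinAddOrder (e' x) := hy ▸ AddMonoidHom.isOfFinAddOrder _ (isOfFinAddOrder_H _ hn y)
  have := AddMonoidHom.isOfFinAddOrder e'.symm.toAddMonoidHom h
  simpa using this

/-- Higher direct images from the spectrum of a field are torsion. -/
theorem isTorsion_Rpush_field {K : Type u} [Field K] {Y : Scheme.{u}} (f : Spec (CommRingCat.of K) ⟶ Y)
    [QuasiCompact f] (F : EtCoh.Ab (Spec (CommRingCat.of K))) (n : ℕ) (hn : 0 < n) :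
    EtCoh.IsTorsion ((EtCoh.Rpush f n).obj F) := by
  let L := presheafToSheaf Y.smallEtaleTopology AddCommGrpCat.{u + 1}
  haveI : L.Additive := presheafToSheaf_additive
  haveI : (EtColim.pushPsh f).Additive := { }
  let e : EtColim.pushPsh f ⋙ L ≅ EtCoh.push f :=
    Functor.isoWhiskerLeft (EtCoh.push f)
      (asIso (sheafificationAdjunction Y.smallEtaleTopology AddCommGrpCat.{u + 1}).counit) ≪≫ (EtCoh.push f).rightUnitor
  let P := ((EtColim.pushPsh f).rightDerived n).obj F
  refine EtColim.isTorsion_of_iso (F := L.obj P)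
    (((RDComp.rightDerivedPostIso (EtColim.pushPsh f) L n).symm ≪≫ ExtDerived.rightDerivedMapIso n e).app F) fun U s x => ?_
  have hcov := Presheaf.imageSieve_mem Y.smallEtaleTopology (toSheafify Y.smallEtaleTopology P) (U := op U) s
  rw [EtSite.mem_et_iff] at hcov
  obtain ⟨V, g, v, ⟨p, hp⟩, hv⟩ := hcov x
  obtain ⟨A, hA, hvA, -⟩ := exists_isAffineOpen_mem_and_subset (X := V.left) (x := v) (U := ⊤) trivial
  haveI : IsAffine (EtSite.sub V A).left := hA
  refine ⟨EtSite.sub V A, EtSite.subHom V A ≫ g, ⟨⟨v, hvA⟩, hv⟩, ?_⟩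
  rw [op_comp, Functor.map_comp_apply]
  have h1 : (L.obj P).obj.map (EtSite.subHom V A).op ((L.obj P).obj.map g.op s) =
      (toSheafify Y.smallEtaleTopology P).app (op (EtSite.sub V A)) (P.map (EtSite.subHom V A).op p) := by
    rw [NatTrans.naturality_apply]
    exact congrArg _ hp.symm
  rw [h1]
  exact AddMonoidHom.isOfFinAddOrder _ (isAddTorsion_rpushPsh_field f F n hn (EtSite.sub V A) _)

theorem isZero_Rpush_rat {K : Type u} [Field K] {Y : Scheme.{u}} (f : Spec (CommRingCat.of K) ⟶ Y)
    [QuasiCompact f] (q : ℕ) (hq : 0 < q) :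
    IsZero ((EtCoh.Rpush f q).obj (EtCoh.const (Spec (CommRingCat.of K)) ℚ)) := by
  let P := (EtCoh.Rpush f q).obj (EtCoh.const (Spec (CommRingCat.of K)) ℚ)
  have htor := isTorsion_Rpush_field f (EtCoh.const (Spec (CommRingCat.of K)) ℚ) q hq
  haveI : (EtCoh.Rpush f q).Additive := by unfold EtCoh.Rpush; infer_instance
  have hiso : ∀ N : ℕ, 0 < N → IsIso (N • 𝟙 P) := fun N hN => by
    haveI := isIso_nsmul_id_const_rat (Spec (CommRingCat.of K)) N hN
    rw [show N • 𝟙 P = (EtCoh.Rpush f q).map (N • 𝟙 (EtCoh.const (Spec (CommRingCat.of K)) ℚ)) by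
      rw [Functor.map_nsmul, CategoryTheory.Functor.map_id]]
    infer_instance
  refine (IsZero.iff_id_eq_zero _).2 (Sheaf.hom_ext (NatTrans.ext (funext fun U => AddCommGrpCat.ext fun s => ?_)))
  refine EtStalk.eq_of_agree P fun x => ?_
  obtain ⟨V, g, hx, hfin⟩ := htor U.unop s x
  refine ⟨V, g, hx, ?_⟩
  obtain ⟨N, hN, hs⟩ := isOfFinAddOrder_iff_nsmul_eq_zero.1 hfin
  haveI := hiso N hN
  have hmul : ∀ r : ℕ, (r • 𝟙 P : P ⟶ P).hom.app (op V) (P.obj.map g.op s) = r • P.obj.map g.op s := by
    intro r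
    induction r with
    | zero => rw [zero_nsmul, zero_nsmul]; rfl
    | succ r ih => rw [succ_nsmul, succ_nsmul]; exact congrArg (· + P.obj.map g.op s) ih
  have hinj := (EtStalk.mono_iff_app_injective (N • 𝟙 P)).1 inferInstance (op V)
  have h0 : P.obj.map g.op s = 0 := hinj (by rw [hmul, hs, map_zero])
  exact h0.trans (map_zero _).symm

theorem subsingleton_H_rat_integral (Y : Scheme.{u}) [IsIntegral Y] [QuasiSeparatedSpace Y]
    (hN : ∀ y : Y, IsIntegrallyClosed (Y.presheaf.stalk y)) (i : ℕ) (hi : 0 < i) :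
    Subsingleton (EtCoh.H Y (EtCoh.const Y ℚ) i) := by
  let η : Spec (CommRingCat.of Y.functionField) ⟶ Y := Y.fromSpecStalk (genericPoint Y)
  haveI : QuasiCompact η := by
    haveI : CompactSpace (Spec (CommRingCat.of Y.functionField)) := inferInstance
    infer_instance
  haveI : IsIso ((EtCoh.pullPushAdj η).unit.app (EtCoh.const Y ℚ)) := NormSep24.isIso_unit_const_generic hN ℚ
  let C := (EtCoh.pull η).obj (EtCoh.const Y ℚ)
  let e : C ≅ EtCoh.const (Spec (CommRingCat.of Y.functionField)) ℚ := EtCore.pullConst η ℚ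
  have hR : ∀ q, 0 < q → IsZero ((EtCoh.Rpush η q).obj C) := fun q hq =>
    (isZero_Rpush_rat η q hq).of_iso ((EtCoh.Rpush η q).mapIso e)
  have hC : Subsingleton (EtCoh.H _ C i) := by
    haveI := subsingleton_H_of_divisible (k := Y.functionField) (EtCoh.const _ ℚ)
      (fun n hn => isIso_nsmul_id_const_rat _ n hn) hi
    refine subsingleton_of_forall_eq 0 fun x => eq_zero_of_comp_iso x e ?_
    exact Subsingleton.elim _ _
  refine subsingleton_of_forall_eq 0 fun x => ?_
  refine eq_zero_of_comp_iso x (asIso ((EtCoh.pullPushAdj η).unit.app (EtCoh.const Y ℚ))) ?_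
  exact (EtStalk.bijective_HofPush η i C hR).1 (Subsingleton.elim _ _)

/-- Connected components of a Noetherian space are open. -/
theorem isOpen_connectedComponent_of_noetherian {α : Type*} [TopologicalSpace α] [TopologicalSpace.NoetherianSpace α]
    (x : α) : IsOpen (connectedComponent x) := by
  have h : (connectedComponent x)ᶜ = ⋃ D ∈ {D ∈ irreducibleComponents α | Disjoint D (connectedComponent x)}, D := by
    ext y
    simp only [Set.mem_compl_iff, Set.mem_iUnion, Set.mem_setOf_eq, exists_prop]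
    refine ⟨fun hy => ⟨irreducibleComponent y, ⟨irreducibleComponent_mem_irreducibleComponents y, ?_⟩,
      mem_irreducibleComponent⟩, fun ⟨D, ⟨_, hD⟩, hyD⟩ hy => Set.disjoint_left.1 hD hyD hy⟩
    refine Set.disjoint_left.2 fun z hz hzc => hy ?_
    have h1 := isIrreducible_irreducibleComponent.isConnected.isPreconnected.subset_connectedComponent hz
      (mem_irreducibleComponent (x := y))
    exact connectedComponent_eq hzc ▸ h1
  rw [← isClosed_compl_iff, h]
  exact ((TopologicalSpace.NoetherianSpace.finite_irreducibleComponents).subset fun D hD => hD.1).isClosed_biUnion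
    fun D hD => isClosed_of_mem_irreducibleComponents D hD.1

/-- Rational étale cohomology of a normal Noetherian scheme vanishes. -/
theorem subsingleton_H_rat_normal (X : Scheme.{u}) [IsLocallyNoetherian X] [CompactSpace X]
    (hN : ∀ x : X, IsDomain (X.presheaf.stalk x) ∧ IsIntegrallyClosed (X.presheaf.stalk x)) (i : ℕ) (hi : 0 < i) :
    Subsingleton (EtCoh.H X (EtCoh.const X ℚ) i) := by
  classical
  haveI : IsNoetherian X := {}
  have hop : ∀ x : X, IsOpen (connectedComponent x) := fun x => isOpen_connectedComponent_of_noetherian x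
  obtain ⟨T, hT⟩ := isCompact_univ.elim_finite_subcover (fun x : X => connectedComponent x) hop
    (fun x _ => Set.mem_iUnion.2 ⟨x, mem_connectedComponent⟩)
  let Cs : Finset (Set X) := T.image fun x => connectedComponent x
  let J : Type := Fin Cs.card
  let S : J → Set X := fun C => (Cs.equivFin.symm C).1
  have hJ : ∀ C : J, ∃ x : X, S C = connectedComponent x := fun C => by
    obtain ⟨x, -, hx⟩ := Finset.mem_image.1 (Cs.equivFin.symm C).2
    exact ⟨x, hx.symm⟩
  choose x₀ hx₀ using hJ
  let U : J → X.Opens := fun C => ⟨S C, hx₀ C ▸ hop _⟩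
  have hU : ∀ z : X, ∃! C : J, z ∈ U C := by
    intro z
    obtain ⟨x, hx, hzx⟩ := Set.mem_iUnion₂.1 (hT (Set.mem_univ z))
    let C₀ : Cs := ⟨connectedComponent x, Finset.mem_image.2 ⟨x, hx, rfl⟩⟩
    refine ⟨Cs.equivFin C₀, ?_, fun C hC => ?_⟩
    · show z ∈ S _
      simpa [S, C₀] using hzx
    have h1 : z ∈ connectedComponent (x₀ C) := hx₀ C ▸ (hC : z ∈ S C)
    exact Cs.equivFin.symm_apply_eq.1 (Subtype.ext
      ((hx₀ C).trans ((connectedComponent_eq h1).trans (connectedComponent_eq hzx).symm)))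
  let A : EtCoh.Ab X := EtCoh.const X ℚ
  let R : J → EtCoh.Ab X := fun C => (EtCoh.push (U C).ι).obj ((EtShriek.restrAlong (U C).ι).obj A)
  let φ : A ⟶ ⨁ R := biproduct.lift fun C => (EtStalk.restrPushAdj (U C).ι).unit.app A
  let ev := fun W : X.Etale => sheafToPresheaf X.smallEtaleTopology AddCommGrpCat.{u + 1} ⋙
    (evaluation _ AddCommGrpCat.{u + 1}).obj (op W)
  haveI hadd : ∀ W, (ev W).Additive := fun W => { }
  have hbij : ∀ V : X.Etale, Function.Bijective (φ.hom.app (op V)) := by
    intro V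
    let P : J → V.left.Opens := fun C => V.hom ⁻¹ᵁ U C
    have hP : ∀ z, ∃! C, z ∈ P C := fun z => hU (V.hom z)
    have hP' : ∀ z, ∃! C : ULift.{u} J, z ∈ P C.down := fun z => by
      obtain ⟨C, hC, hu⟩ := hP z
      exact ⟨⟨C⟩, hC, fun D hD => ULift.ext _ _ (hu D.down hD)⟩
    let W : J → X.Etale := fun C => (EtShriek.compEtale (U C).ι).obj ((EtCoh.bc (U C).ι).obj V)
    let a : ∀ C, W C ⟶ V := fun C => (EtStalk.compBcAdj (U C).ι).counit.app V
    have hπ : ∀ (C : J) (s : A.obj.obj (op V)), (biproduct.π R C).hom.app (op V) (φ.hom.app (op V) s) =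
        A.obj.map (a C).op s := by
      intro C s
      rw [← ConcreteCategory.comp_apply, ← NatTrans.comp_app, ← ObjectProperty.FullSubcategory.comp_hom,
        biproduct.lift_π]
      rfl
    have hiso : ∀ C, ∃ b : W C ≅ EtSite.sub V (P C), b.hom ≫ EtSite.subHom V (P C) = a C := by
      intro C
      refine ⟨MorphismProperty.Over.isoMk (pullbackRestrictIsoRestrict V.hom (U C))
        (by
          show (pullbackRestrictIsoRestrict V.hom (U C)).hom ≫ (P C).ι ≫ V.hom = pullback.snd V.hom (U C).ι ≫ (U C).ι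
          rw [← Category.assoc, pullbackRestrictIsoRestrict_hom_ι, pullback.condition]), ?_⟩
      refine MorphismProperty.Over.Hom.ext ?_
      exact pullbackRestrictIsoRestrict_hom_ι V.hom (U C)
    choose b hb using hiso
    have hext : ∀ σ τ : (⨁ R).obj.obj (op V), (∀ C, (biproduct.π R C).hom.app (op V) σ = (biproduct.π R C).hom.app (op V) τ) → σ = τ := by
      intro σ τ h
      have key : ∀ σ : (⨁ R).obj.obj (op V), σ = ∑ C, (biproduct.ι R C).hom.app (op V) ((biproduct.π R C).hom.app (op V) σ) := by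
        intro σ
        refine (ConcreteCategory.congr_hom ((ev V).map_id _) σ).symm.trans ?_
        refine (congrArg (fun ψ => (ev V).map ψ σ) (biproduct.total (f := R)).symm).trans ?_
        exact map_sum (AddMonoidHom.mk' (fun ψ => (ev V).map ψ σ) (fun a b => by rw [Functor.map_add]; rfl)) _ _
      rw [key σ, key τ]
      simp only [h]
    constructor
    · intro s t hst
      obtain ⟨t', -, hu⟩ := EtStalk.existsUnique_glue_parts A V (fun C : ULift.{u} J => P C.down) hP'
        (fun C => A.obj.map (EtSite.subHom V (P C.down)).op s)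
      refine (hu s fun C => rfl).trans (hu t fun C' => ?_).symm
      obtain ⟨C⟩ := C'
      have h1 := congrArg ((biproduct.π R C).hom.app (op V)) hst
      rw [hπ, hπ, ← hb C, op_comp, Functor.map_comp_apply, Functor.map_comp_apply] at h1
      exact ((ConcreteCategory.bijective_of_isIso (A.obj.map (b C).hom.op)).1 h1).symm
    · intro σ
      obtain ⟨t, ht, -⟩ := EtStalk.existsUnique_glue_parts A V (fun C : ULift.{u} J => P C.down) hP'
        (fun C => A.obj.map (b C.down).inv.op ((biproduct.π R C.down).hom.app (op V) σ))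
      refine ⟨t, hext _ _ fun C => ?_⟩
      rw [hπ, ← hb C, op_comp, Functor.map_comp_apply, ht ⟨C⟩, ← Functor.map_comp_apply, ← op_comp, Iso.hom_inv_id,
        op_id, CategoryTheory.Functor.map_id]
      rfl
  haveI : Mono φ := (EtStalk.mono_iff_app_injective φ).2 fun V => (hbij V.unop).1
  haveI : Epi φ := by
    rw [← Sheaf.isLocallySurjective_iff_epi']
    refine ⟨fun {V} s => ?_⟩
    obtain ⟨t, ht⟩ := (hbij V).2 s
    rw [← ht, Presheaf.imageSieve_app]
    exact GrothendieckTopology.top_mem _ _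
  haveI := isIso_of_mono_of_epi φ
  refine subsingleton_of_forall_eq 0 fun x => eq_zero_of_comp_iso x (asIso φ) ?_
  have hcomp : ∀ C, x.comp (Ext.mk₀ ((EtStalk.restrPushAdj (U C).ι).unit.app A)) (add_zero i) = 0 := by
    intro C
    have hcl : IsClosed (U C : Set X) := by show IsClosed (S C); rw [hx₀ C]; exact isClosed_connectedComponent
    haveI : IsClosedImmersion (U C).ι := IsClosedImmersion.of_isPreimmersion _ (by
      rw [Scheme.Opens.range_ι]; exact hcl)
    haveI : ConnectedSpace (U C).toScheme := isConnected_iff_connectedSpace.1 (show _root_.IsConnected (S C) by rw [hx₀ C]; exact isConnected_connectedComponent)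
    haveI : CompactSpace (U C).toScheme := isCompact_iff_compactSpace.1 hcl.isCompact
    haveI : IsNoetherian (U C).toScheme := {}
    have hst : ∀ y : (U C).toScheme, IsDomain ((U C).toScheme.presheaf.stalk y) ∧
        IsIntegrallyClosed ((U C).toScheme.presheaf.stalk y) := fun y => by
      let e := (asIso ((U C).ι.stalkMap y)).commRingCatIsoToRingEquiv
      haveI := (hN ((U C).ι y)).1
      haveI := (hN ((U C).ι y)).2
      exact ⟨MulEquiv.isDomain _ e.symm.toMulEquiv, IsIntegrallyClosed.of_equiv e⟩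
    haveI := VB17.isIntegral_of_connected fun y => (hst y).1
    haveI := subsingleton_H_rat_integral (U C).toScheme (fun y => (hst y).2) i hi
    have hC : Subsingleton (EtCoh.H (U C).toScheme ((EtShriek.restrAlong (U C).ι).obj A) i) := by
      refine subsingleton_of_forall_eq 0 fun z => eq_zero_of_comp_iso z
        ((EtStalk.restrPullIso (U C).ι).app A ≪≫ EtCore.pullConst (U C).ι ℚ) ?_
      exact Subsingleton.elim _ _
    exact (bijective_HofPush_integral (U C).ι _ i).1 (Subsingleton.elim _ _)
  show x.comp (Ext.mk₀ φ) (add_zero i) = 0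
  refine eq_zero_of_forall_proj _ fun C => ?_
  rw [Ext.comp_assoc_of_third_deg_zero, Ext.mk₀_comp_mk₀, biproduct.lift_π]
  exact hcomp C
where
  eq_zero_of_forall_proj {X : Scheme.{u}} {B : EtCoh.Ab X} {J : Type} [Fintype J] {R : J → EtCoh.Ab X} {i : ℕ}
      (z : Ext B (⨁ R) i) (h : ∀ C, z.comp (Ext.mk₀ (biproduct.π R C)) (add_zero i) = 0) : z = 0 := by
    refine (Ext.comp_mk₀_id z).symm.trans ((congrArg (fun ψ => z.comp (Ext.mk₀ ψ) (add_zero i)) (biproduct.total (f := R)).symm).trans ?_)
    have h2 := map_sum (AddMonoidHom.mk' (fun ψ : (⨁ R) ⟶ (⨁ R) => z.comp (Ext.mk₀ ψ) (add_zero i))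
      (fun a b => by rw [Ext.mk₀_add, Ext.comp_add])) (fun C => biproduct.π R C ≫ biproduct.ι R C) Finset.univ
    refine h2.trans (Finset.sum_eq_zero fun C _ => ?_)
    show z.comp (Ext.mk₀ (biproduct.π R C ≫ biproduct.ι R C)) (add_zero i) = 0
    rw [← Ext.mk₀_comp_mk₀, ← Ext.comp_assoc_of_third_deg_zero, h C, Ext.zero_comp]

end Groth.Agent.FieldH25
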