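import Groth.Agent.Lib.FieldH25.Primary
import Groth.Agent.Lib.FieldH25.H1
import Groth.Agent.Lib.FieldH25.SplitField
import Groth.Agent.Lib.EtStalk.Pull
import Groth.Agent.Lib.EtStalk.Agree
import Mathlib.GroupTheory.PGroup

/-!
# Sheaves with finite stalk killed by `p`, split by a `p`-extension, contain a constant `ℤ/p`
-/

set_option autoImplicit false
set_option linter.style.haveILetI false
set_option backward.isDefEq.respectTransparency.types false

universe u

open CategoryTheory CategoryTheory.Limits AlgebraicGeometry Opposite Abelian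
open Groth.Agent.EtStalk

namespace Groth.Agent.FieldH25

theorem nsmul_sect_eq_zero {X : Scheme.{u}} (G : EtCoh.Ab X) {N : ℕ} (h : N • 𝟙 G = 0) {U : X.Etale}
    (s : G.obj.obj (op U)) : N • s = 0 := by
  have h1 : ((sheafToPresheaf _ _ ⋙ (evaluation _ _).obj (op U)).map (N • 𝟙 G) : G.obj.obj (op U) ⟶ _) = 0 := by
    rw [h, Functor.map_zero]
  rw [Functor.map_nsmul, CategoryTheory.Functor.map_id] at h1
  exact ConcreteCategory.congr_hom h1 s

theorem nsmul_stalk_eq_zero {X : Scheme.{u}} {Ω : Type u} [Field Ω] [IsSepClosed Ω] (ξ : Spec (CommRingCat.of Ω) ⟶ X)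
    (G : EtCoh.Ab X) {N : ℕ} (h : N • 𝟙 G = 0) (x : (EtCoh.stalk ξ).obj G) : N • x = 0 := by
  obtain ⟨U, z, s, rfl⟩ := germ_surjective ξ G x
  rw [← map_nsmul, nsmul_sect_eq_zero G h, map_zero]

variable (k : Type u) [Field k] (Ω : Type u) [Field Ω] [Algebra k Ω]

/-- The geometric point of a separable closure. -/
noncomputable abbrev sepPt : Spec (CommRingCat.of Ω) ⟶ Spec (CommRingCat.of k) := specExt k Ω

variable [IsSepClosed Ω]

/-- The geometric point of a subextension. -/
noncomputable def extPt (M : Type u) [Field M] [Algebra k M] [FiniteDimensional k M] [Algebra.IsSeparable k M]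
    [Algebra M Ω] [IsScalarTower k M Ω] : fib (sepPt k Ω) (ext k M) :=
  Over.homMk (specExt M Ω) (specExt_comp k M Ω)

variable {k}

theorem exists_fibPt (U : (Spec (CommRingCat.of k)).Etale) (u : U.left) :
    ∃ φ : fib (sepPt k Ω) U, fibPt φ = u := by
  obtain ⟨φ, hφ⟩ := Scheme.pointSmallEtaleFiberObjToPreimage_surjective (sepPt k Ω)
    (Subsingleton.elim (α := PrimeSpectrum k) (sepPt k Ω default) (U.hom u)) U ⟨u, rfl⟩
  exact ⟨φ, congrArg Subtype.val hφ⟩

theorem sect_ext (G : EtCoh.Ab (Spec (CommRingCat.of k))) {U : (Spec (CommRingCat.of k)).Etale}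
    (s t : G.obj.obj (op U)) (h : ∀ φ : fib (sepPt k Ω) U, germ (sepPt k Ω) G φ s = germ (sepPt k Ω) G φ t) :
    s = t :=
  eq_of_agree G fun x => by
    obtain ⟨φ, rfl⟩ := exists_fibPt Ω U x
    exact (mem_agree_iff_germ G φ s t).2 (h φ)

theorem mono_of_stalk {F G : EtCoh.Ab (Spec (CommRingCat.of k))} (a : F ⟶ G)
    (h : Function.Injective ((EtCoh.stalk (sepPt k Ω)).map a)) : Mono a := by
  rw [mono_iff_app_injective]
  rintro ⟨U⟩ s t hst
  exact sect_ext Ω F s t fun φ => h (by rw [germ_nat, germ_nat, hst])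

theorem germ_extPt_injective (G : EtCoh.Ab (Spec (CommRingCat.of k))) (M : Type u) [Field M] [Algebra k M]
    [FiniteDimensional k M] [Algebra.IsSeparable k M] [Algebra M Ω] [IsScalarTower k M Ω] :
    Function.Injective (germ (sepPt k Ω) G (extPt k Ω M)) := fun s t h => eq_of_agree G fun x => by
  have hx : x = fibPt (extPt k Ω M) := Subsingleton.elim (α := PrimeSpectrum M) _ _
  rw [hx]
  exact (mem_agree_iff_germ G (extPt k Ω M) s t).2 h

variable [IsGalois k Ω]

/-- A sheaf with finite stalk is split by a finite Galois extension. -/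
theorem exists_split (G : EtCoh.Ab (Spec (CommRingCat.of k))) [Finite ((EtCoh.stalk (sepPt k Ω)).obj G)] :
    ∃ M : IntermediateField k Ω, ∃ (_ : FiniteDimensional k M) (_ : IsGalois k M),
      Function.Surjective (germ (sepPt k Ω) G (extPt k Ω M)) := by
  have key : ∀ q : (EtCoh.stalk (sepPt k Ω)).obj G, ∃ E : IntermediateField k Ω, FiniteDimensional k E ∧
      ∀ (M : IntermediateField k Ω) [FiniteDimensional k M] [Algebra.IsSeparable k M], E ≤ M →
        ∃ s, germ (sepPt k Ω) G (extPt k Ω M) s = q := by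
    intro q
    obtain ⟨U, x, s, rfl⟩ := germ_surjective (sepPt k Ω) G q
    obtain ⟨L, _, _, _, _, m, hm⟩ := exists_ext_point k U (fibPt x)
    obtain ⟨z, hz⟩ := hm
    haveI := etale_left m
    let xl : Spec (CommRingCat.of Ω) ⟶ U.left := x.left
    obtain ⟨y', -⟩ := Scheme.pointSmallEtaleFiberObjToPreimage_surjective xl
      (s₀ := xl default) rfl (Scheme.Etale.mk m.left) ⟨z, hz⟩
    have hy : y'.left ≫ m.left = xl := Over.w y'
    have hy2 : (show Spec (CommRingCat.of Ω) ⟶ Spec (CommRingCat.of L) from y'.left) ≫ specExt k L = sepPt k Ω := by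
      have h1 : m.left ≫ U.hom = specExt k L := MorphismProperty.Over.w m
      exact (congrArg (y'.left ≫ ·) h1.symm).trans ((Category.assoc _ _ _).symm.trans
        ((congrArg (· ≫ U.hom) hy).trans (Over.w x)))
    let φ := Spec.preimage (show Spec (CommRingCat.of Ω) ⟶ Spec (CommRingCat.of L) from y'.left)
    have hφ : (show Spec (CommRingCat.of Ω) ⟶ Spec (CommRingCat.of L) from y'.left) = Spec.map φ :=
      (Spec.map_preimage _).symm
    have hw : CommRingCat.ofHom (algebraMap k L) ≫ φ = CommRingCat.ofHom (algebraMap k Ω) := Spec.map_injective (by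
      rw [Spec.map_comp, ← hφ]
      exact hy2)
    let ψ : L →ₐ[k] Ω := { φ.hom with commutes' := fun r => congr($hw r) }
    refine ⟨ψ.fieldRange, (AlgEquiv.ofInjectiveField ψ).toLinearEquiv.finiteDimensional, ?_⟩
    intro M _ _ hle
    let a : L →ₐ[k] M := ψ.codRestrict M.toSubalgebra fun l => hle ⟨l, rfl⟩
    refine ⟨G.obj.map (extMap k a ≫ m).op s, ?_⟩
    rw [germ_map]
    refine congrArg (fun t => germ (sepPt k Ω) G t s) (Over.OverMorphism.ext ?_)
    show specExt M Ω ≫ Spec.map (CommRingCat.ofHom a.toRingHom) ≫ m.left = x.left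
    rw [← Category.assoc, ← Spec.map_comp]
    refine (congrArg (· ≫ m.left) ?_).trans hy
    exact (congrArg Spec.map (CommRingCat.hom_ext (RingHom.ext fun _ => rfl))).trans hφ.symm
  choose E hE hE' using key
  haveI := hE
  haveI := Fintype.ofFinite ((EtCoh.stalk (sepPt k Ω)).obj G)
  haveI : FiniteDimensional k (⨆ q, E q : IntermediateField k Ω) := IntermediateField.finiteDimensional_iSup_of_finite
  let M := IntermediateField.normalClosure k (⨆ q, E q : IntermediateField k Ω) Ω
  haveI : FiniteDimensional k M := normalClosure.is_finiteDimensional k _ Ω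
  haveI : IsGalois k M := IsGalois.normalClosure k _ Ω
  refine ⟨M, inferInstance, inferInstance, fun q => hE' q M ?_⟩
  exact (le_iSup E q).trans (IntermediateField.le_normalClosure _)

theorem extMap_one (M : Type u) [Field M] [Algebra k M] [FiniteDimensional k M] [Algebra.IsSeparable k M] :
    extMap k ((1 : M ≃ₐ[k] M).toAlgHom) = 𝟙 (ext k M) := by
  refine MorphismProperty.Over.Hom.ext ?_
  exact Spec.map_id _

/-- The constant sheaf presheaf map of a global section killed by `p`. -/
theorem exists_const_hom (G : EtCoh.Ab (Spec (CommRingCat.of k))) (p : ℕ) [Fact p.Prime]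
    (T : G.obj.obj (op (EtCoh.top (Spec (CommRingCat.of k))))) (hT : p • T = 0) (hT0 : T ≠ 0) :
    ∃ κ : EtCoh.const (Spec (CommRingCat.of k)) (ZMod p) ⟶ G, Mono κ ∧
      ∃ e, κ.hom.app (op (EtCoh.top (Spec (CommRingCat.of k)))) e = T := by
  let X := Spec (CommRingCat.of k)
  let A := AddCommGrpCat.of (ULift.{u + 1} (ZMod p))
  let hl : ZMod p →+ G.obj.obj (op (EtCoh.top X)) :=
    ZMod.lift p ⟨zmultiplesHom _ T, by simpa using hT⟩
  have hl1 : hl 1 = T := by
    rw [show (1 : ZMod p) = ((1 : ℤ) : ZMod p) by norm_num, ZMod.lift_coe]; simp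
  have hlinj : Function.Injective hl := by
    refine (injective_iff_map_eq_zero hl).2 fun c hc => ?_
    by_contra hc0
    refine hT0 ?_
    have h2 : c⁻¹.val • hl c = hl 1 := by
      rw [← map_nsmul, nsmul_eq_mul, ZMod.natCast_val, ZMod.cast_id, inv_mul_cancel₀ hc0]
    rw [← hl1, ← h2, hc, nsmul_zero]
  let β : (Functor.const X.Etaleᵒᵖ).obj A ⟶ G.obj :=
    { app := fun U => AddCommGrpCat.ofHom (hl.comp AddEquiv.ulift.toAddMonoidHom) ≫ G.obj.map (toTop U.unop).op
      naturality := fun U V g => by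
        show 𝟙 A ≫ _ = (_ ≫ _) ≫ _
        rw [Category.id_comp, Category.assoc, ← Functor.map_comp]
        refine congrArg (fun t => _ ≫ G.obj.map t) (Quiver.Hom.unop_inj ?_)
        exact w_top _ _ }
  let κ : EtCoh.const X (ZMod p) ⟶ G := ⟨sheafifyLift X.smallEtaleTopology β G.property⟩
  have hκ : ∀ (U : X.Etale) (c : A), κ.hom.app (op U) ((toSheafify X.smallEtaleTopology ((Functor.const X.Etaleᵒᵖ).obj A)).app (op U) c) =
      G.obj.map (toTop U).op (hl c.down) := fun U c =>
    ConcreteCategory.congr_hom (congrArg (fun t => t.app (op U))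
      (toSheafify_sheafifyLift X.smallEtaleTopology β G.property)) c
  refine ⟨κ, ?_, _, (hκ (EtCoh.top X) ⟨1⟩).trans ?_⟩
  · rw [mono_iff_app_injective]
    rintro ⟨U⟩
    refine (injective_iff_map_eq_zero (κ.hom.app (op U)).hom).2 fun σ hσ => ?_
    refine eq_of_agree _ fun z => ?_
    have hcov := Presheaf.imageSieve_mem X.smallEtaleTopology
      (toSheafify X.smallEtaleTopology ((Functor.const X.Etaleᵒᵖ).obj A)) (U := op U) σ
    rw [EtSite.mem_et_iff] at hcov
    obtain ⟨V, g, v, ⟨c, hc⟩, hv⟩ := hcov z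
    refine ⟨V, g, ⟨v, hv⟩, ?_⟩
    rw [map_zero]
    have h1 := ConcreteCategory.congr_hom (κ.hom.naturality g.op) σ
    simp only [ConcreteCategory.comp_apply] at h1
    change κ.hom.app (op V) _ = G.obj.map g.op _ at h1
    have h0 : κ.hom.app (op U) σ = 0 := hσ
    rw [h0, map_zero] at h1
    replace h1 := ((hκ V c).symm.trans (congrArg (κ.hom.app (op V)) hc)).trans h1
    have h2 : hl c.down = 0 := by
      refine eq_of_agree G fun w => ⟨V, toTop V, ⟨v, Subsingleton.elim (α := PrimeSpectrum k) _ _⟩, ?_⟩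
      rw [h1, map_zero]
    have h3 : c = 0 := ULift.ext _ _ (hlinj (h2.trans (map_zero hl).symm))
    refine hc.symm.trans ?_
    rw [h3]
    exact map_zero _
  · show G.obj.map (toTop (EtCoh.top X)).op (hl 1) = T
    rw [hl1, w_top (toTop (EtCoh.top X)) (𝟙 _), op_id, CategoryTheory.Functor.map_id]
    rfl

/-- Unipotence: a sheaf killed by `p` with finite nonzero stalk, split by a Galois `p`-extension,
contains a constant sheaf `ℤ/p`. -/
theorem exists_const_mono (G : EtCoh.Ab (Spec (CommRingCat.of k))) [Finite ((EtCoh.stalk (sepPt k Ω)).obj G)]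
    [Nontrivial ((EtCoh.stalk (sepPt k Ω)).obj G)] (p : ℕ) [Fact p.Prime] (hG : p • 𝟙 G = 0)
    (M : Type u) [Field M] [Algebra k M] [FiniteDimensional k M] [IsGalois k M] [Algebra M Ω] [IsScalarTower k M Ω]
    (hM : Function.Surjective (germ (sepPt k Ω) G (extPt k Ω M))) (a : ℕ) (ha : Module.finrank k M = p ^ a) :
    ∃ (κ : EtCoh.const (Spec (CommRingCat.of k)) (ZMod p) ⟶ G), Mono κ ∧
      Finite ((EtCoh.stalk (sepPt k Ω)).obj (cokernel κ)) ∧
      Nat.card ((EtCoh.stalk (sepPt k Ω)).obj (cokernel κ)) < Nat.card ((EtCoh.stalk (sepPt k Ω)).obj G) := by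
  let e := Equiv.ofBijective _ ⟨germ_extPt_injective Ω G M, hM⟩
  haveI : Finite (G.obj.obj (op (ext k M))) := Finite.of_equiv _ e.symm
  haveI : Nontrivial (G.obj.obj (op (ext k M))) := e.nontrivial
  letI : MulAction (M ≃ₐ[k] M) (G.obj.obj (op (ext k M))) :=
    { smul := fun γ t => galAct G γ t
      one_smul := fun t => by
        show G.obj.map _ t = t
        rw [extMap_one, op_id, CategoryTheory.Functor.map_id]
        rfl
      mul_smul := fun σ τ t => galAct_mul G σ τ t }
  have hP : IsPGroup p (M ≃ₐ[k] M) := IsPGroup.of_card ((IsGalois.card_aut_eq_finrank k M).trans ha)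
  have hdvd : p ∣ Nat.card (G.obj.obj (op (ext k M))) := by
    obtain ⟨t, ht⟩ := exists_ne (0 : G.obj.obj (op (ext k M)))
    rw [← addOrderOf_eq_prime (nsmul_sect_eq_zero G hG t) ht]
    exact addOrderOf_dvd_natCard t
  obtain ⟨t, ht, ht0⟩ := hP.exists_fixed_point_of_prime_dvd_card_of_fixed_point _ hdvd
    (a := (0 : G.obj.obj (op (ext k M)))) (fun γ => map_zero (galAct G γ))
  obtain ⟨T, hT⟩ := exists_descend G M t ht
  have hT0 : T ≠ 0 := fun h => ht0 (by rw [← hT, h, map_zero])
  obtain ⟨κ, hκ, c, hc⟩ := exists_const_hom G p T (nsmul_sect_eq_zero G hG T) hT0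
  haveI : Epi ((EtCoh.stalk (sepPt k Ω)).map (cokernel.π κ)) := by
    haveI : (EtCoh.stalk (sepPt k Ω)).IsLeftAdjoint :=
      (Scheme.pointSmallEtale (sepPt k Ω)).skyscraperSheafAdjunction.isLeftAdjoint
    infer_instance
  have hsurj := (AddCommGrpCat.epi_iff_surjective ((EtCoh.stalk (sepPt k Ω)).map (cokernel.π κ))).1 inferInstance
  haveI : Finite ((EtCoh.stalk (sepPt k Ω)).obj (cokernel κ)) := Finite.of_surjective _ hsurj
  refine ⟨κ, hκ, inferInstance, ?_⟩
  refine lt_of_le_of_ne (Nat.card_le_card_of_surjective _ hsurj) fun hcard => ?_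
  have hinj := ((Nat.bijective_iff_surjective_and_card _).2 ⟨hsurj, hcard.symm⟩).1
  obtain ⟨φ, -⟩ := exists_fibPt Ω (EtCoh.top (Spec (CommRingCat.of k))) (IsLocalRing.closedPoint k)
  refine hT0 (sect_ext Ω G T 0 fun φ => hinj ?_)
  rw [map_zero, map_zero, ← hc, ← germ_nat, ← ConcreteCategory.comp_apply, ← Functor.map_comp, cokernel.condition,
    Functor.map_zero]
  rfl

/-- Splitting is inherited by intermediate base fields. -/
theorem surjective_germ_baseChange (G : EtCoh.Ab (Spec (CommRingCat.of k))) (M : Type u) [Field M] [Algebra k M]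
    [FiniteDimensional k M] [Algebra.IsSeparable k M] [Algebra M Ω] [IsScalarTower k M Ω]
    (k' : Type u) [Field k'] [Algebra k k'] [Algebra k' M] [Algebra k' Ω] [FiniteDimensional k' M]
    [Algebra.IsSeparable k' M] [IsScalarTower k k' M] [IsScalarTower k k' Ω] [IsScalarTower k' M Ω]
    (hM : Function.Surjective (germ (sepPt k Ω) G (extPt k Ω M))) :
    Function.Surjective (germ (sepPt k' Ω) ((EtCoh.pull (specExt k k')).obj G) (extPt k' Ω M)) ∧
      Nat.card ((EtCoh.stalk (sepPt k' Ω)).obj ((EtCoh.pull (specExt k k')).obj G)) =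
        Nat.card ((EtCoh.stalk (sepPt k Ω)).obj G) := by
  let g := specExt k k'
  have e : sepPt k Ω = sepPt k' Ω ≫ g := (specExt_comp k k' Ω).symm
  have gen : ∀ (ξ : Spec (CommRingCat.of Ω) ⟶ Spec (CommRingCat.of k)), sepPt k Ω = ξ →
      ∃ φ : fib ξ (ext k M), φ.left = specExt M Ω ∧ Function.Surjective (germ ξ G φ) ∧
        Nat.card ((EtCoh.stalk ξ).obj G) = Nat.card ((EtCoh.stalk (sepPt k Ω)).obj G) := by
    rintro ξ rfl
    exact ⟨extPt k Ω M, rfl, hM, rfl⟩
  obtain ⟨φ, hφ, hsurj, hcard⟩ := gen _ e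
  have hb := ConcreteCategory.bijective_of_isIso (stalkPull g (sepPt k' Ω) G)
  refine ⟨fun q => ?_, (Nat.card_eq_of_bijective _ hb).symm.trans hcard⟩
  obtain ⟨q₀, rfl⟩ := hb.2 q
  obtain ⟨s, rfl⟩ := hsurj q₀
  let c : ext k' M ⟶ (EtCoh.bc g).obj (ext k M) :=
    MorphismProperty.Over.homMk (pullback.lift (𝟙 _) (specExt k' M)
      ((Category.id_comp _).trans (specExt_comp k k' M).symm)) (pullback.lift_snd _ _ _)
  refine ⟨((EtCoh.pull g).obj G).obj.map c.op (((EtCoh.pullPushAdj g).unit.app G).hom.app _ s), ?_⟩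
  rw [germ_stalkPull]
  refine (germ_map _ _ c _ _).trans ?_
  refine congrArg (fun t => germ (sepPt k' Ω) ((EtCoh.pull g).obj G) t
    (((EtCoh.pullPushAdj g).unit.app G).hom.app (op (ext k M)) s)) (Over.OverMorphism.ext ?_)
  refine pullback.hom_ext ?_ ?_
  · refine (Category.assoc _ _ _).trans (Eq.trans (congrArg (specExt M Ω ≫ ·) (pullback.lift_fst _ _ _)) ?_)
    refine (Category.comp_id _).trans (Eq.trans hφ.symm ?_)
    exact (pullback.lift_fst _ _ _).symm
  · refine (Category.assoc _ _ _).trans (Eq.trans (congrArg (specExt M Ω ≫ ·) (pullback.lift_snd _ _ _)) ?_)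
    refine (specExt_comp k' M Ω).trans ?_
    exact (pullback.lift_snd _ _ _).symm

end Groth.Agent.FieldH25
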